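import Mathlib
import Cfsg.Prelude.Def_Sporadic_a
import Cfsg.Agent.Lib.Helper94.GolayChain

/-!
Engine for explicit 2-subgroups of the group of the length 24 code: subgroups cut out by packed tables of
binary relations on the 24 points, their enumeration along a chain of point stabilisers, and the canonical
relations attached to a subgroup (they are preserved by its normaliser).
-/

set_option autoImplicit false
open scoped Pointwise

namespace Cfsg.Agent.Lib.Helper88
open Cfsg.Agent.Lib.Helper94

/-! ### codes of elements of a subgroup -/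

/-- `P` is the code of an element of `K`. -/
def Rep (K : Subgroup (Equiv.Perm GolayPt)) (P : ℕ) : Prop := ∃ g ∈ K, code g = P

theorem Rep.mul {K : Subgroup (Equiv.Perm GolayPt)} {A B : ℕ} (hA : Rep K A) (hB : Rep K B) :
    Rep K (mulM A B) := by
  obtain ⟨a, ha, rfl⟩ := hA
  obtain ⟨b, hb, rfl⟩ := hB
  exact ⟨a * b, K.mul_mem ha hb, code_mul a b⟩

theorem Rep.inv {K : Subgroup (Equiv.Perm GolayPt)} {A : ℕ} (hA : Rep K A) : Rep K (invM A) := by
  obtain ⟨a, ha, rfl⟩ := hA
  exact ⟨a⁻¹, K.inv_mem ha, code_inv a⟩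

theorem Rep.one (K : Subgroup (Equiv.Perm GolayPt)) : Rep K idM := ⟨1, K.one_mem, code_one⟩

theorem Rep.mono {K K' : Subgroup (Equiv.Perm GolayPt)} (h : K ≤ K') {A : ℕ} (hA : Rep K A) : Rep K' A := by
  obtain ⟨a, ha, rfl⟩ := hA
  exact ⟨a, h ha, rfl⟩

theorem rep_code_iff {K : Subgroup (Equiv.Perm GolayPt)} {g : Equiv.Perm GolayPt} : Rep K (code g) ↔ g ∈ K := by
  constructor
  · rintro ⟨a, ha, h⟩
    rwa [← code_injective h]
  · intro h
    exact ⟨g, h, rfl⟩

/-- all products of an entry of `V` with an entry of `L`. -/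
noncomputable def prodL (V L : List ℕ) : List ℕ := V.flatMap fun v => L.map (mulM v)

theorem mem_prodL {V L : List ℕ} {c : ℕ} : c ∈ prodL V L ↔ ∃ v ∈ V, ∃ d ∈ L, mulM v d = c := by
  simp [prodL, List.mem_flatMap, List.mem_map]

theorem rep_prodL {K : Subgroup (Equiv.Perm GolayPt)} {V L : List ℕ} (hV : ∀ v ∈ V, Rep K v)
    (hL : ∀ c ∈ L, Rep K c) : ∀ c ∈ prodL V L, Rep K c := by
  intro c hc
  obtain ⟨v, hv, d, hd, rfl⟩ := mem_prodL.1 hc
  exact (hV v hv).mul (hL d hd)

/-- all products `s₁^{e₁} ⋯ s_k^{e_k}` with exponents `0, 1`. -/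
noncomputable def pcL (l : List ℕ) : List ℕ :=
  List.rec [idM] (fun s _ ih => prodL [idM, s] ih) l

theorem pcL_nil : pcL [] = [idM] := rfl
theorem pcL_cons (s : ℕ) (l : List ℕ) : pcL (s :: l) = prodL [idM, s] (pcL l) := rfl

theorem rep_pcL {K : Subgroup (Equiv.Perm GolayPt)} {l : List ℕ} (hl : ∀ v ∈ l, Rep K v) :
    ∀ c ∈ pcL l, Rep K c := by
  induction l with
  | nil =>
    intro c hc
    rw [pcL_nil, List.mem_singleton] at hc
    rw [hc]; exact Rep.one K
  | cons s l ih =>
    rw [pcL_cons]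
    apply rep_prodL
    · intro v hv
      simp only [List.mem_cons, List.not_mem_nil, or_false] at hv
      rcases hv with rfl | rfl
      · exact Rep.one K
      · exact hl _ List.mem_cons_self
    · exact ih fun v hv => hl v (List.mem_cons_of_mem _ hv)

/-! ### fixed points -/

/-- the subgroup of the permutations fixing every point of the set with mask `F`. -/
def FixS (F : ℕ) : Subgroup (Equiv.Perm GolayPt) where
  carrier := {g | FixM g F}
  mul_mem' := by
    intro a b ha hb p hp
    rw [Equiv.Perm.mul_apply, hb p hp, ha p hp]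
  one_mem' := fun _ _ => rfl
  inv_mem' := by
    intro a ha p hp
    rw [Equiv.Perm.inv_eq_iff_eq, ha p hp]

theorem mem_FixS {F : ℕ} {g : Equiv.Perm GolayPt} : g ∈ FixS F ↔ FixM g F := Iff.rfl

/-- the mask of the set of fixed points of the permutation with code `P`. -/
def fixMask (P : ℕ) : ℕ := or24 fun x => Nat.land (fld P x) (Nat.pow 2 x)

theorem testBit_fixMask (g : Equiv.Perm GolayPt) (p : GolayPt) :
    (fixMask (code g)).testBit (enc p) = true ↔ g p = p := by
  rw [fixMask, testBit_or24]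
  constructor
  · rintro ⟨i, hi, h⟩
    rw [fld_code g hi] at h
    simp only [Nat.land_eq, Nat.pow_eq, Nat.testBit_and, Nat.testBit_two_pow, Bool.and_eq_true,
      decide_eq_true_eq] at h
    obtain ⟨h1, h2⟩ := h
    subst h2
    rw [pt_enc] at h1
    exact enc_injective h1
  · intro h
    refine ⟨enc p, enc_lt p, ?_⟩
    rw [fld_code_enc, h]
    simp

theorem fixM_of_fixMask {g : Equiv.Perm GolayPt} {F : ℕ} (h : Nat.land (fixMask (code g)) F = F) : FixM g F := by
  intro p hp
  rw [← testBit_fixMask]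
  rw [← h] at hp
  simp only [Nat.land_eq, Nat.testBit_and, Bool.and_eq_true] at hp
  exact hp.1

/-! ### tables of relations -/

/-- entry `k` of a packed table of masks. -/
def row (T k : ℕ) : ℕ := Nat.land (Nat.shiftRight T (Nat.mul 24 k)) 16777215

theorem row_lt (T k : ℕ) : row T k < 2 ^ 24 :=
  lt_of_le_of_lt Nat.and_le_right (by norm_num)

/-- the permutations preserving the `n` binary relations of a packed table: row `24 k + x` is the mask of the
set of all `y` in relation number `k` with `x`. -/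
def AutT (T n : ℕ) : Subgroup (Equiv.Perm GolayPt) where
  carrier := {g | ∀ k < n, ∀ p : GolayPt,
    g • unm (row T (24 * k + enc p)) = unm (row T (24 * k + enc (g p)))}
  mul_mem' := by
    intro a b ha hb k hk p
    rw [mul_smul, hb k hk p, ha k hk (b p), Equiv.Perm.mul_apply]
  one_mem' := by
    intro k _ p
    rw [one_smul, Equiv.Perm.one_apply]
  inv_mem' := by
    intro a ha k hk p
    have h := ha k hk (a⁻¹ p)
    have e : a (a⁻¹ p) = p := by simp
    rw [e] at h
    rw [← h, inv_smul_smul]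

theorem mem_AutT {T n : ℕ} {g : Equiv.Perm GolayPt} : g ∈ AutT T n ↔ ∀ k < n, ∀ p : GolayPt,
    g • unm (row T (24 * k + enc p)) = unm (row T (24 * k + enc (g p))) := Iff.rfl

/-- error word: zero iff the permutation with code `P` preserves the relations of the table. -/
noncomputable def autErr (T n P : ℕ) : ℕ :=
  orL (fun k => or24 fun x => Nat.xor (applyM P (row T (Nat.add (Nat.mul 24 k) x)))
    (row T (Nat.add (Nat.mul 24 k) (Nat.log2 (fld P x))))) (List.range n)

theorem mem_AutT_of_autErr {T n : ℕ} {g : Equiv.Perm GolayPt} (h : autErr T n (code g) = 0) :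
    g ∈ AutT T n := by
  intro k hk p
  rw [autErr, orL_eq_zero_iff] at h
  have h1 := h k (List.mem_range.2 hk)
  rw [or24_eq_zero_iff] at h1
  have h2 := h1 (enc p) (enc_lt p)
  rw [fld_code_enc, Nat.log2_two_pow] at h2
  simp only [Nat.xor_eq, Nat.xor_eq_zero_iff, Nat.add_eq, Nat.mul_eq] at h2
  rw [applyM_code_unm g (row_lt _ _), msk_eq_iff (row_lt _ _)] at h2
  exact h2

/-- the rows of the table belonging to the points of the set with mask `F`. -/
noncomputable def rowsOf (T n F : ℕ) : List ℕ :=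
  ((List.range (24 * n)).filter fun k => F.testBit (k % 24)).map (row T)

theorem inv_rowsOf {T n F : ℕ} {g : Equiv.Perm GolayPt} (hg : g ∈ AutT T n) (hF : FixM g F) :
    ∀ m ∈ rowsOf T n F, Inv g m := by
  intro m hm
  rw [rowsOf, List.mem_map] at hm
  obtain ⟨k, hk, rfl⟩ := hm
  rw [List.mem_filter, List.mem_range] at hk
  obtain ⟨hk1, hk2⟩ := hk
  have hlt : k % 24 < 24 := Nat.mod_lt _ (by norm_num)
  have h := hg (k / 24) (by omega) (pt (k % 24))
  have hfix : g (pt (k % 24)) = pt (k % 24) := hF _ (by rw [enc_pt hlt]; exact hk2)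
  rw [hfix, enc_pt hlt, Nat.div_add_mod] at h
  exact h

theorem inv_const {T n k m : ℕ} {g : Equiv.Perm GolayPt} (hg : g ∈ AutT T n) (hk : k < n)
    (hc : ∀ x < 24, row T (24 * k + x) = m) : Inv g m := by
  have h := hg k hk (pt 0)
  rw [hc _ (enc_lt _), hc _ (enc_lt _)] at h
  exact h

/-! ### octads containing an invariant set of five points -/

theorem inv_octad_of_inv {g : Equiv.Perm GolayPt} (hg : g ∈ M24) {o A : ℕ} (ho : unm o ∈ octads)
    (hA : Inv g A) (hsub : A &&& o = A) (h5 : 5 ≤ (unm A).card) : Inv g o := by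
  unfold Helper94.Inv
  apply octad_eq_of_inter ((smul_mem_octads_iff hg _).2 ho) ho
  refine le_trans h5 (Finset.card_le_card ?_)
  have hAo : unm A ⊆ unm o := by
    rw [← hsub, unm_inter]; exact Finset.inter_subset_right
  intro p hp
  rw [Finset.mem_inter]
  refine ⟨?_, hAo hp⟩
  have : p ∈ g • unm A := by rw [hA]; exact hp
  exact Finset.smul_finset_subset_smul_finset hAo this

/-- the union of `o ∩ F` and of the atoms (of the Boolean algebra generated by `l`, outside `F`) inside `o`. -/
noncomputable def stabA (l : List ℕ) (F o : ℕ) : ℕ :=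
  Nat.lor (Nat.land o F) (or24 fun p =>
    Nat.mul (eqN (Nat.land (atomL p l (Nat.xor 16777215 F)) o) (atomL p l (Nat.xor 16777215 F)))
      (atomL p l (Nat.xor 16777215 F)))

theorem Inv.zero (g : Equiv.Perm GolayPt) : Inv g 0 := by
  have := (Inv.full g).xor (Inv.full g)
  simpa using this

theorem inv_or24 {g : Equiv.Perm GolayPt} (f : ℕ → ℕ) (h : ∀ i < 24, Inv g (f i)) : Inv g (or24 f) := by
  have key : ∀ n, n ≤ 24 → ∀ m, (∀ j, m.testBit j = true ↔ ∃ i < n, (f i).testBit j = true) → Inv g m := by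
    intro n
    induction n with
    | zero =>
      intro _ m hm
      have : m = 0 := by
        apply Nat.eq_of_testBit_eq
        intro j
        rw [Nat.zero_testBit]
        cases hb : m.testBit j
        · rfl
        · obtain ⟨i, hi, _⟩ := (hm j).1 hb
          omega
      rw [this]; exact Inv.zero g
    | succ n ih =>
      intro hn m hm
      have h1 : Inv g (m &&& 0 ||| 0) := by simpa using Inv.zero g
      -- the union of the first `n` sets
      obtain ⟨m', hm'⟩ : ∃ m' : ℕ, ∀ j, m'.testBit j = true ↔ ∃ i < n, (f i).testBit j = true := by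
        clear ih hm h1
        induction n with
        | zero => exact ⟨0, fun j => by simp⟩
        | succ k ihk =>
          obtain ⟨m1, hm1⟩ := ihk (by omega)
          refine ⟨m1 ||| f k, fun j => ?_⟩
          rw [Nat.testBit_or, Bool.or_eq_true, hm1]
          constructor
          · rintro (⟨i, hi, h⟩ | h)
            · exact ⟨i, by omega, h⟩
            · exact ⟨k, by omega, h⟩
          · rintro ⟨i, hi, h⟩
            rcases Nat.lt_succ_iff_lt_or_eq.1 hi with h' | rfl
            · exact Or.inl ⟨i, h', h⟩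
            · exact Or.inr h
      have h2 : Inv g m' := ih (by omega) m' hm'
      have h3 : m = m' ||| f n := by
        apply Nat.eq_of_testBit_eq
        intro j
        rw [Bool.eq_iff_iff, Nat.testBit_or, Bool.or_eq_true, hm, hm']
        constructor
        · rintro ⟨i, hi, h⟩
          rcases Nat.lt_succ_iff_lt_or_eq.1 hi with h' | rfl
          · exact Or.inl ⟨i, h', h⟩
          · exact Or.inr h
        · rintro (⟨i, hi, h⟩ | h)
          · exact ⟨i, by omega, h⟩
          · exact ⟨n, by omega, h⟩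
      rw [h3]
      exact h2.or (h n (by omega))
  exact key 24 le_rfl _ (fun j => testBit_or24 f j)

theorem inv_stabA {g : Equiv.Perm GolayPt} {l : List ℕ} {F : ℕ} (hl : ∀ m ∈ l, Inv g m) (hF : FixM g F)
    (o : ℕ) : Inv g (stabA l F o) := by
  have e : stabA l F o = (o &&& F) ||| (or24 fun p =>
    Nat.mul (eqN (Nat.land (atomL p l (Nat.xor 16777215 F)) o) (atomL p l (Nat.xor 16777215 F)))
      (atomL p l (Nat.xor 16777215 F))) := rfl
  rw [e]
  apply Inv.or hF.mono.inv
  apply inv_or24
  intro p _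
  have ha : Inv g (atomL p l (Nat.xor 16777215 F)) := inv_atomL p l hl _ ((Inv.full g).xor hF.inv)
  rw [eqN_eq]
  split
  · simpa using ha
  · simpa using Inv.zero g

theorem stabA_sub (l : List ℕ) (F o : ℕ) : stabA l F o &&& o = stabA l F o := by
  have e : stabA l F o = (o &&& F) ||| (or24 fun p =>
    Nat.mul (eqN (Nat.land (atomL p l (Nat.xor 16777215 F)) o) (atomL p l (Nat.xor 16777215 F)))
      (atomL p l (Nat.xor 16777215 F))) := rfl
  apply Nat.eq_of_testBit_eq
  intro j
  rw [Nat.testBit_and]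
  cases hb : (stabA l F o).testBit j
  · rfl
  · rw [Bool.true_and]
    rw [e, Nat.testBit_or, Bool.or_eq_true] at hb
    rcases hb with hb | hb
    · rw [Nat.testBit_and, Bool.and_eq_true] at hb
      exact hb.1
    · obtain ⟨i, _, h⟩ := (testBit_or24 _ _).1 hb
      rw [eqN_eq] at h
      split at h
      · next heq =>
        simp only [Nat.mul_eq, one_mul] at h
        rw [← heq] at h
        simp only [Nat.land_eq, Nat.testBit_and, Bool.and_eq_true] at h
        exact h.2
      · simp at h

/-- usable octads: octads with at least five points in an invariant subset. -/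
noncomputable def goodOct2 (l : List ℕ) (F o : ℕ) : Bool :=
  inCode o && Nat.beq (popc o) 8 && Nat.ble 5 (popc (stabA l F o)) && Nat.ble o 16777215

theorem inv_goodOct2 {g : Equiv.Perm GolayPt} (hg : g ∈ M24) {l : List ℕ} {F : ℕ} (hl : ∀ m ∈ l, Inv g m)
    (hF : FixM g F) (L : List ℕ) : ∀ m ∈ l ++ L.filter (goodOct2 l F), Inv g m := by
  intro m hm
  rw [List.mem_append] at hm
  rcases hm with hm | hm
  · exact hl m hm
  · rw [List.mem_filter] at hm
    have hgood := hm.2
    simp only [goodOct2, Bool.and_eq_true, Nat.beq_eq, Nat.ble_eq] at hgood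
    obtain ⟨⟨⟨h1, h2⟩, h3⟩, h4⟩ := hgood
    have hlt : m < 2 ^ 24 := by omega
    have hoct : unm m ∈ octads := by
      refine ⟨?_, by rw [card_unm hlt, h2]⟩
      rw [mem_supports_iff, msk_unm hlt]; exact h1
    have hsub := stabA_sub l F m
    apply inv_octad_of_inv hg hoct (inv_stabA hl hF m) hsub
    rw [card_unm (by rw [← hsub]; exact lt_of_le_of_lt Nat.and_le_right hlt)]
    exact h3

/-! ### enumeration along a chain of stabilisers -/

theorem level_step {K : Subgroup (Equiv.Perm GolayPt)} {F β Ω : ℕ} {V L' : List ℕ} (hβ : β < 24)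
    (horb : ∀ g ∈ K, FixM g F → Ω.testBit (enc (g (pt β))) = true)
    (hV : ∀ v ∈ V, Rep (K ⊓ FixS F) v)
    (hcov : ∀ j < 24, Ω.testBit j = true → ∃ v ∈ V, applyM v (2 ^ β) = 2 ^ j)
    (hnext : ∀ g ∈ K, FixM g (F ||| 2 ^ β) → code g ∈ L') :
    ∀ g ∈ K, FixM g F → code g ∈ prodL V L' := by
  intro g hg hF
  obtain ⟨v, hv, hvj⟩ := hcov _ (enc_lt _) (horb g hg hF)
  obtain ⟨u, hu, rfl⟩ := hV v hv
  obtain ⟨huK, huF⟩ := Subgroup.mem_inf.1 hu
  have hub : u (pt β) = g (pt β) := by
    have := applyM_code_pt u (pt β)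
    rw [enc_pt hβ, hvj] at this
    exact (enc_injective (Nat.pow_right_injective (le_refl 2) this)).symm
  have hfix : FixM (u⁻¹ * g) (F ||| 2 ^ β) := by
    intro p hp
    rw [Nat.testBit_or, Bool.or_eq_true] at hp
    rw [Equiv.Perm.mul_apply, Equiv.Perm.inv_eq_iff_eq]
    rcases hp with hp | hp
    · rw [hF p hp, huF p hp]
    · rw [Nat.testBit_two_pow] at hp
      have : β = enc p := of_decide_eq_true hp
      have hp' : p = pt β := by rw [this, pt_enc]
      rw [hp', hub]
  have h1 := hnext _ (K.mul_mem (K.inv_mem huK) hg) hfix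
  rw [mem_prodL]
  refine ⟨_, hv, _, h1, ?_⟩
  rw [← code_mul, mul_inv_cancel_left]

theorem orb_of_inv {g : Equiv.Perm GolayPt} {Ω β : ℕ} (h : Inv g Ω) (hβ : β < 24) (hb : Ω.testBit β = true) :
    Ω.testBit (enc (g (pt β))) = true := by
  rw [h.testBit_eq, enc_pt hβ, hb]

/-! ### canonical relations of a subgroup -/

/-- the canonical relation with exponents `i, j` of a subgroup. -/
def Canon (S : Subgroup (Equiv.Perm GolayPt)) (i j : ℕ) (x y : GolayPt) : Prop :=
  ∀ s ∈ S, (s ^ i) x = x → (s ^ j) y = y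

theorem canon_conj {S : Subgroup (Equiv.Perm GolayPt)} {g : Equiv.Perm GolayPt}
    (hg : ∀ s, s ∈ S ↔ g * s * g⁻¹ ∈ S) (i j : ℕ) (x y : GolayPt) :
    Canon S i j (g x) (g y) ↔ Canon S i j x y := by
  have hpow : ∀ (s : Equiv.Perm GolayPt) (n : ℕ) (z : GolayPt),
      ((g * s * g⁻¹) ^ n) (g z) = g ((s ^ n) z) := by
    intro s n z
    rw [conj_pow]
    simp [Equiv.Perm.mul_apply]
  constructor
  · intro h s hs hx
    have h1 := h (g * s * g⁻¹) ((hg s).1 hs) (by rw [hpow, hx])
    rw [hpow] at h1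
    exact g.injective h1
  · intro h s hs hx
    have hs' : g⁻¹ * s * g ∈ S := by
      rw [hg]
      have : g * (g⁻¹ * s * g) * g⁻¹ = s := by group
      rw [this]; exact hs
    have e : s = g * (g⁻¹ * s * g) * g⁻¹ := by group
    rw [e, hpow] at hx
    have h1 := h _ hs' (g.injective hx)
    rw [e, hpow, h1]

/-- block `k` of the table is the canonical relation with exponents `i, j` of `S`. -/
def RelOK (S : Subgroup (Equiv.Perm GolayPt)) (T k i j : ℕ) : Prop :=
  ∀ x y : GolayPt, (row T (24 * k + enc x)).testBit (enc y) = true ↔ Canon S i j x y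

theorem mem_AutT_of_normalizes {S : Subgroup (Equiv.Perm GolayPt)} {T n : ℕ}
    (hR : ∀ k < n, ∃ i j, RelOK S T k i j) {g : Equiv.Perm GolayPt}
    (hg : ∀ s, s ∈ S ↔ g * s * g⁻¹ ∈ S) : g ∈ AutT T n := by
  intro k hk p
  obtain ⟨i, j, h⟩ := hR k hk
  ext q
  rw [← Finset.inv_smul_mem_iff, mem_unm, mem_unm, h, h, ← canon_conj hg i j p]
  simp

/-- error word of an element with masks `a` (fixed points of its power `i`) and `b` (of its power `j`). -/
def relErr (T k a b : ℕ) : ℕ :=
  or24 fun x => Nat.mul (Nat.land (Nat.shiftRight a x) 1)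
    (Nat.xor (row T (Nat.add (Nat.mul 24 k) x)) (Nat.land (row T (Nat.add (Nat.mul 24 k) x)) b))

theorem relErr_spec {T k a b : ℕ} (h : relErr T k a b = 0) {x y : ℕ} (hx : x < 24) (ha : a.testBit x = true)
    (hr : (row T (24 * k + x)).testBit y = true) : b.testBit y = true := by
  rw [relErr, or24_eq_zero_iff] at h
  have h1 := h x hx
  have h2 : (a >>> x) &&& 1 = 1 := by
    have := Nat.toNat_testBit a x
    rw [ha] at this
    rw [Nat.and_one_is_mod, Nat.shiftRight_eq_div_pow]
    exact this.symm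
  simp only [Nat.mul_eq, Nat.land_eq, Nat.shiftRight_eq', h2, one_mul, Nat.xor_eq, Nat.xor_eq_zero_iff,
    Nat.add_eq] at h1
  rw [h1, Nat.testBit_and, Bool.and_eq_true] at hr
  exact hr.2

theorem relOK_of_checks {S : Subgroup (Equiv.Perm GolayPt)} {T k i j : ℕ} {L W : List ℕ} (fi fj : ℕ → ℕ)
    (hfi : ∀ (s : Equiv.Perm GolayPt) (p : GolayPt), (fi (code s)).testBit (enc p) = true ↔ (s ^ i) p = p)
    (hfj : ∀ (s : Equiv.Perm GolayPt) (p : GolayPt), (fj (code s)).testBit (enc p) = true ↔ (s ^ j) p = p)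
    (hE : ∀ s ∈ S, code s ∈ L) (hW : ∀ w ∈ W, Rep S w)
    (h1 : ∀ c ∈ L, relErr T k (fi c) (fj c) = 0)
    (h2 : ∀ x < 24, ∀ y < 24, (row T (24 * k + x)).testBit y = false →
      ∃ w ∈ W, (fi w).testBit x = true ∧ (fj w).testBit y = false) :
    RelOK S T k i j := by
  intro x y
  constructor
  · intro hr s hs hx
    rw [← hfj]
    exact relErr_spec (h1 _ (hE s hs)) (enc_lt x) ((hfi s x).2 hx) hr
  · intro hc
    by_contra hr
    rw [Bool.not_eq_true] at hr
    obtain ⟨w, hw, hwx, hwy⟩ := h2 _ (enc_lt x) _ (enc_lt y) hr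
    obtain ⟨s, hs, rfl⟩ := hW w hw
    have := hc s hs ((hfi s x).1 hwx)
    rw [← hfj, hwy] at this
    exact Bool.false_ne_true this

/-- masks of the fixed points of the powers `0, 1, 2, 4` of a permutation given by its code. -/
def fx0 (_ : ℕ) : ℕ := 16777215
def fx2 (c : ℕ) : ℕ := fixMask (mulM c c)
def fx4 (c : ℕ) : ℕ := fixMask (mulM (mulM c c) (mulM c c))

theorem fx0_spec (s : Equiv.Perm GolayPt) (p : GolayPt) :
    (fx0 (code s)).testBit (enc p) = true ↔ (s ^ 0) p = p := by
  have : ∀ q : GolayPt, (16777215 : ℕ).testBit (enc q) = true := by decide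
  simp [fx0, this]

theorem fx1_spec (s : Equiv.Perm GolayPt) (p : GolayPt) :
    (fixMask (code s)).testBit (enc p) = true ↔ (s ^ 1) p = p := by
  rw [testBit_fixMask, pow_one]

theorem fx2_spec (s : Equiv.Perm GolayPt) (p : GolayPt) :
    (fx2 (code s)).testBit (enc p) = true ↔ (s ^ 2) p = p := by
  rw [fx2, ← code_mul, testBit_fixMask, pow_two]

theorem fx4_spec (s : Equiv.Perm GolayPt) (p : GolayPt) :
    (fx4 (code s)).testBit (enc p) = true ↔ (s ^ 4) p = p := by
  rw [fx4, ← code_mul, ← code_mul, testBit_fixMask]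
  have : s * s * (s * s) = s ^ 4 := by
    rw [show (4 : ℕ) = 2 + 2 from rfl, pow_add, pow_two]
  rw [this]

end Cfsg.Agent.Lib.Helper88
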