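import Mathlib
import Cfsg.Prelude.Def_Sporadic_a
import Cfsg.Agent.Lib.Helper88.MEngine

/-!
Kernel-checkable certificates for the enumeration of a subgroup `GG F0 D ⊓ AutT T n` of the group of the
length 24 code along a chain of point stabilisers.
-/

set_option autoImplicit false
open scoped Pointwise

namespace Cfsg.Agent.Lib.Helper88
open Cfsg.Agent.Lib.Helper94

/-- the permutations mapping the set with mask `D` onto itself. -/
def InvS (D : ℕ) : Subgroup (Equiv.Perm GolayPt) := MulAction.stabilizer (Equiv.Perm GolayPt) (unm D)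

theorem mem_InvS {D : ℕ} {g : Equiv.Perm GolayPt} : g ∈ InvS D ↔ Helper94.Inv g D := Iff.rfl

/-- the elements of the group of the code fixing the points of `F0` and mapping `D` onto itself. -/
def GG (F0 D : ℕ) : Subgroup (Equiv.Perm GolayPt) := M24 ⊓ FixS F0 ⊓ InvS D

theorem mem_GG {F0 D : ℕ} {g : Equiv.Perm GolayPt} :
    g ∈ GG F0 D ↔ g ∈ M24 ∧ FixM g F0 ∧ Helper94.Inv g D := by
  rw [GG, Subgroup.mem_inf, Subgroup.mem_inf, and_assoc]; rfl

/-- membership test for `GG F0 D`. -/
noncomputable def inGG (F0 D v : ℕ) : Bool :=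
  inM24 v && Nat.beq (Nat.land (fixMask v) F0) F0 && Nat.beq (applyM v D) D

theorem mem_GG_of_inGG {F0 D : ℕ} (hD : D < 2 ^ 24) {g : Equiv.Perm GolayPt} (h : inGG F0 D (code g) = true) :
    g ∈ GG F0 D := by
  simp only [inGG, Bool.and_eq_true, Nat.beq_eq] at h
  obtain ⟨⟨h1, h2⟩, h3⟩ := h
  rw [mem_GG]
  refine ⟨?_, fixM_of_fixMask h2, (inv_iff_applyM g hD).2 h3⟩
  have := permOf_mem_M24 h1
  rwa [permOf_code] at this

theorem exists_code_of_inGG {F0 D v : ℕ} (h : inGG F0 D v = true) : ∃ g : Equiv.Perm GolayPt, code g = v := by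
  simp only [inGG, Bool.and_eq_true] at h
  exact exists_code_of_valid (validM_of_inM24 h.1.1)

/-- the subgroup cut out by a table. -/
def KK (T n F0 D : ℕ) : Subgroup (Equiv.Perm GolayPt) := GG F0 D ⊓ AutT T n

/-- membership test for `KK T n F0 D`. -/
noncomputable def inKK (T n F0 D v : ℕ) : Bool := inGG F0 D v && Nat.beq (autErr T n v) 0

theorem rep_KK_of_inKK {T n F0 D : ℕ} (hD : D < 2 ^ 24) {v : ℕ} (h : inKK T n F0 D v = true) :
    Rep (KK T n F0 D) v := by
  simp only [inKK, Bool.and_eq_true, Nat.beq_eq] at h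
  obtain ⟨g, rfl⟩ := exists_code_of_inGG h.1
  exact ⟨g, Subgroup.mem_inf.2 ⟨mem_GG_of_inGG hD h.1, mem_AutT_of_autErr h.2⟩, rfl⟩

/-- one round of closure of the set of fixed points. -/
noncomputable def clo (T n : ℕ) (E Lo : List ℕ) (F : ℕ) : ℕ :=
  close1 octadL ((E ++ rowsOf T n F) ++ Lo.filter (goodOct2 (E ++ rowsOf T n F) F)) F

theorem inv_E_rows {T n F : ℕ} {E : List ℕ} {g : Equiv.Perm GolayPt} (hT : g ∈ AutT T n)
    (hE : ∀ m ∈ E, Helper94.Inv g m) (hF : FixM g F) : ∀ m ∈ E ++ rowsOf T n F, Helper94.Inv g m := by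
  intro m hm
  rw [List.mem_append] at hm
  rcases hm with hm | hm
  · exact hE m hm
  · exact inv_rowsOf hT hF m hm

theorem fixM_clo {T n F : ℕ} {E : List ℕ} (Lo : List ℕ) {g : Equiv.Perm GolayPt} (hg : g ∈ M24)
    (hT : g ∈ AutT T n) (hE : ∀ m ∈ E, Helper94.Inv g m) (hF : FixM g F) : FixM g (clo T n E Lo F) :=
  fixM_close1 hg _ _ _ (inv_goodOct2 hg (inv_E_rows hT hE hF) hF Lo) hF

/-- check of a sequence of successive closures. -/
noncomputable def closeOK (T n : ℕ) (E Lo : List ℕ) : ℕ → List ℕ → Bool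
  | _, [] => true
  | F, F1 :: r => Nat.beq (clo T n E Lo F) F1 && closeOK T n E Lo F1 r

theorem fixM_closeOK {T n : ℕ} {E : List ℕ} (Lo : List ℕ) {g : Equiv.Perm GolayPt} (hg : g ∈ M24)
    (hT : g ∈ AutT T n) (hE : ∀ m ∈ E, Helper94.Inv g m) (cls : List ℕ) :
    ∀ F, closeOK T n E Lo F cls = true → FixM g F → FixM g (cls.getLastD F) := by
  induction cls with
  | nil => intro F _ hF; exact hF
  | cons F1 r ih =>
    intro F h hF
    simp only [closeOK, Bool.and_eq_true, Nat.beq_eq] at h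
    have h1 : FixM g F1 := by rw [← h.1]; exact fixM_clo Lo hg hT hE hF
    have := ih F1 h.2 h1
    rw [List.getLastD_cons]
    exact this

/-- one level of a chain: successive closures of the set of fixed points, the next base point, its orbit and
elements whose products with exponents `0, 1` carry the base point to all the points of the orbit. -/
structure Lev where
  cls : List ℕ
  β : ℕ
  Ω : ℕ
  gens : List ℕ

/-- every point of `Ω` is the image of `β` under a member of `V`. -/
noncomputable def coverOK (Ω β : ℕ) (V : List ℕ) : Bool :=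
  (List.range 24).all fun j => !Ω.testBit j || V.any fun v => Nat.beq (applyM v (Nat.pow 2 β)) (Nat.pow 2 j)

theorem coverOK_spec {Ω β : ℕ} {V : List ℕ} (h : coverOK Ω β V = true) :
    ∀ j < 24, Ω.testBit j = true → ∃ v ∈ V, applyM v (2 ^ β) = 2 ^ j := by
  intro j hj hΩ
  rw [coverOK, List.all_eq_true] at h
  have h1 := h j (List.mem_range.2 hj)
  rw [hΩ] at h1
  simp only [Bool.not_true, Bool.false_or, List.any_eq_true, Nat.beq_eq, Nat.pow_eq] at h1
  exact h1

/-- the certificate check. -/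
noncomputable def chainOK (T n F0 D : ℕ) (E Lo fin : List ℕ) : ℕ → List Lev → Bool
  | F, [] => closeOK T n E Lo F fin && Nat.beq (fin.getLastD F) 16777215
  | F, lv :: rest =>
      closeOK T n E Lo F lv.cls && Nat.blt lv.β 24 &&
      Nat.beq (atomL lv.β (E ++ rowsOf T n (lv.cls.getLastD F)) 16777215) lv.Ω &&
      lv.Ω.testBit lv.β &&
      lv.gens.all (fun v => inKK T n F0 D v &&
        Nat.beq (Nat.land (fixMask v) (lv.cls.getLastD F)) (lv.cls.getLastD F)) &&
      coverOK lv.Ω lv.β (pcL lv.gens) &&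
      chainOK T n F0 D E Lo fin (Nat.lor (lv.cls.getLastD F) (Nat.pow 2 lv.β)) rest

/-- the list of the codes of the elements. -/
noncomputable def listOf : List Lev → List ℕ
  | [] => [idM]
  | lv :: rest => prodL (pcL lv.gens) (listOf rest)

/-- all the generators of a chain. -/
def gensOf : List Lev → List ℕ
  | [] => []
  | lv :: rest => lv.gens ++ gensOf rest

theorem rep_listOf {X : Subgroup (Equiv.Perm GolayPt)} (lvs : List Lev) (h : ∀ v ∈ gensOf lvs, Rep X v) :
    ∀ c ∈ listOf lvs, Rep X c := by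
  induction lvs with
  | nil =>
    intro c hc
    rw [listOf, List.mem_singleton] at hc
    rw [hc]; exact Rep.one X
  | cons lv rest ih =>
    rw [listOf]
    apply rep_prodL
    · exact rep_pcL fun v hv => h v (by rw [gensOf]; exact List.mem_append_left _ hv)
    · exact ih fun v hv => h v (by rw [gensOf]; exact List.mem_append_right _ hv)

theorem chain_gens {T n F0 D : ℕ} {E Lo fin : List ℕ} (hD : D < 2 ^ 24) (lvs : List Lev) :
    ∀ F, chainOK T n F0 D E Lo fin F lvs = true → ∀ v ∈ gensOf lvs, Rep (KK T n F0 D) v := by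
  induction lvs with
  | nil => intro F _ v hv; simp [gensOf] at hv
  | cons lv rest ih =>
    intro F h v hv
    simp only [chainOK, Bool.and_eq_true] at h
    obtain ⟨⟨⟨_, h5⟩, _⟩, h7⟩ := h
    rw [gensOf, List.mem_append] at hv
    rcases hv with hv | hv
    · rw [List.all_eq_true] at h5
      have := h5 v hv
      rw [Bool.and_eq_true] at this
      exact rep_KK_of_inKK hD this.1
    · exact ih _ h7 v hv

theorem chain_enum {T n F0 D : ℕ} {E Lo fin : List ℕ} (hD : D < 2 ^ 24)
    (hE : ∀ g ∈ KK T n F0 D, ∀ m ∈ E, Helper94.Inv g m) (lvs : List Lev) :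
    ∀ F, chainOK T n F0 D E Lo fin F lvs = true →
      ∀ g ∈ KK T n F0 D, FixM g F → code g ∈ listOf lvs := by
  have h24 : ∀ g ∈ KK T n F0 D, g ∈ M24 := fun g hg => (mem_GG.1 (Subgroup.mem_inf.1 hg).1).1
  have hTT : ∀ g ∈ KK T n F0 D, g ∈ AutT T n := fun g hg => (Subgroup.mem_inf.1 hg).2
  induction lvs with
  | nil =>
    intro F h g hg hF
    simp only [chainOK, Bool.and_eq_true, Nat.beq_eq] at h
    have h1 := fixM_closeOK Lo (h24 g hg) (hTT g hg) (hE g hg) fin F h.1 hF
    rw [h.2] at h1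
    rw [eq_one_of_fixM_full h1, code_one, listOf]
    exact List.mem_singleton.2 rfl
  | cons lv rest ih =>
    intro F h g hg hF
    simp only [chainOK, Bool.and_eq_true, Nat.beq_eq] at h
    obtain ⟨⟨⟨⟨⟨⟨h1, h2⟩, h3⟩, h4⟩, h5⟩, h6⟩, h7⟩ := h
    have hβ : lv.β < 24 := by simpa [Nat.blt] using h2
    have hcl : ∀ g ∈ KK T n F0 D, FixM g F → FixM g (lv.cls.getLastD F) := fun g hg hF =>
      fixM_closeOK Lo (h24 g hg) (hTT g hg) (hE g hg) lv.cls F h1 hF
    rw [listOf]
    refine level_step (K := KK T n F0 D) (F := lv.cls.getLastD F) (β := lv.β) (Ω := lv.Ω) hβ ?_ ?_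
      (coverOK_spec h6) ?_ g hg (hcl g hg hF)
    · intro g hg hF'
      apply orb_of_inv _ hβ h4
      rw [← h3]
      exact inv_atomL _ _ (inv_E_rows (hTT g hg) (hE g hg) hF') _ (Inv.full g)
    · apply rep_pcL
      intro v hv
      rw [List.all_eq_true] at h5
      have := h5 v hv
      rw [Bool.and_eq_true, Nat.beq_eq] at this
      obtain ⟨u, hu, rfl⟩ := rep_KK_of_inKK hD this.1
      exact ⟨u, Subgroup.mem_inf.2 ⟨hu, fixM_of_fixMask this.2⟩, rfl⟩
    · intro g hg hF'
      exact ih _ h7 g hg hF'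

end Cfsg.Agent.Lib.Helper88
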