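import Mathlib
import Cfsg.Prelude.Def_Sporadic_a
import Cfsg.Agent.Lib.Helper88.MChain

/-!
Stabiliser chains with arbitrary base for the groups `GG F0 D`: generation certificates, reconstruction of an
element from the images of the base points, and enumeration of the elements `y` with `y a = b y`.
-/

set_option autoImplicit false
open scoped Pointwise

namespace Cfsg.Agent.Lib.Helper88
open Cfsg.Agent.Lib.Helper94

theorem mem_AutT_zero (T : ℕ) (g : Equiv.Perm GolayPt) : g ∈ AutT T 0 := by
  intro k hk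
  omega

/-- one level of a stabiliser chain: base point, its orbit, and elements carrying the base point to the points of
the orbit. -/
structure GLev where
  β : ℕ
  Ω : ℕ
  tr : List ℕ

/-- the invariant sets used at a level. -/
noncomputable def invsAt (D : ℕ) (Lo : List ℕ) (F : ℕ) : List ℕ := [D] ++ Lo.filter (goodOct2 [D] F)

/-- the certificate check; `finOK` is a test ensuring that only the identity fixes the points of a set. -/
noncomputable def gchainOK (D : ℕ) (Lo : List ℕ) (finOK : ℕ → Bool) (mem : ℕ → Bool) : ℕ → List GLev → Bool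
  | F, [] => finOK F
  | F, lv :: rest =>
      Nat.blt lv.β 24 &&
      Nat.beq (atomL lv.β (invsAt D Lo F) (Nat.xor 16777215 F)) lv.Ω &&
      lv.Ω.testBit lv.β &&
      lv.tr.all (fun v => mem v && Nat.beq (Nat.land (fixMask v) F) F) &&
      coverOK lv.Ω lv.β lv.tr &&
      gchainOK D Lo finOK mem (Nat.lor F (Nat.pow 2 lv.β)) rest

section
variable {K Y : Subgroup (Equiv.Perm GolayPt)} {D : ℕ} {Lo : List ℕ} {finOK : ℕ → Bool} {mem : ℕ → Bool}

theorem inv_single {g : Equiv.Perm GolayPt} (h : Helper94.Inv g D) : ∀ m ∈ [D], Helper94.Inv g m := by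
  intro m hm
  rw [List.mem_singleton] at hm
  rw [hm]; exact h

/-- the step at one level. -/
theorem glevel (hK24 : K ≤ M24) (hKD : ∀ g ∈ K, Helper94.Inv g D)
    (hmem : ∀ v, mem v = true → Rep Y v) {F : ℕ} {lv : GLev} {rest : List GLev}
    (h : gchainOK D Lo finOK mem F (lv :: rest) = true) {g : Equiv.Perm GolayPt} (hg : g ∈ K) (hF : FixM g F) :
    lv.β < 24 ∧ gchainOK D Lo finOK mem (F ||| 2 ^ lv.β) rest = true ∧
    (∃ v ∈ lv.tr, applyM v (2 ^ lv.β) = 2 ^ enc (g (pt lv.β))) ∧
    ∀ v ∈ lv.tr, applyM v (2 ^ lv.β) = 2 ^ enc (g (pt lv.β)) →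
      ∃ u ∈ Y, code u = v ∧ FixM (u⁻¹ * g) (F ||| 2 ^ lv.β) := by
  simp only [gchainOK, Bool.and_eq_true, Nat.beq_eq] at h
  obtain ⟨⟨⟨⟨⟨h1, h2⟩, h3⟩, h4⟩, h5⟩, h6⟩ := h
  have hβ : lv.β < 24 := by simpa [Nat.blt] using h1
  have horb : lv.Ω.testBit (enc (g (pt lv.β))) = true := by
    apply orb_of_inv _ hβ h3
    rw [← h2]
    exact inv_atomL _ _ (inv_goodOct2 (hK24 hg) (inv_single (hKD g hg)) hF Lo) _ ((Inv.full g).xor hF.inv)
  refine ⟨hβ, h6, coverOK_spec h5 _ (enc_lt _) horb, ?_⟩
  intro v hv hvj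
  have h7 := (List.all_eq_true.1 h4) v hv
  rw [Bool.and_eq_true, Nat.beq_eq] at h7
  obtain ⟨u, hu, rfl⟩ := hmem v h7.1
  have huF : FixM u F := fixM_of_fixMask h7.2
  refine ⟨u, hu, rfl, ?_⟩
  have hub : u (pt lv.β) = g (pt lv.β) := by
    have := applyM_code_pt u (pt lv.β)
    rw [enc_pt hβ, hvj] at this
    exact (enc_injective (Nat.pow_right_injective (le_refl 2) this)).symm
  intro p hp
  rw [Nat.testBit_or, Bool.or_eq_true] at hp
  rw [Equiv.Perm.mul_apply, Equiv.Perm.inv_eq_iff_eq]
  rcases hp with hp | hp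
  · rw [hF p hp, huF p hp]
  · rw [Nat.testBit_two_pow] at hp
    have : lv.β = enc p := of_decide_eq_true hp
    have hp' : p = pt lv.β := by rw [this, pt_enc]
    rw [hp', hub]

theorem gchain_nil (hfin : ∀ F, finOK F = true → ∀ g ∈ K, FixM g F → g = 1) {F : ℕ}
    (h : gchainOK D Lo finOK mem F [] = true) {g : Equiv.Perm GolayPt} (hg : g ∈ K) (hF : FixM g F) : g = 1 :=
  hfin F h g hg hF

/-- generation certificate: a subgroup containing the transversals contains everything. -/
theorem gchain_le (hK24 : K ≤ M24) (hKD : ∀ g ∈ K, Helper94.Inv g D)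
    (hfin : ∀ F, finOK F = true → ∀ g ∈ K, FixM g F → g = 1) (hYK : Y ≤ K)
    (hmem : ∀ v, mem v = true → Rep Y v) (lvs : List GLev) :
    ∀ F, gchainOK D Lo finOK mem F lvs = true → ∀ g ∈ K, FixM g F → g ∈ Y := by
  induction lvs with
  | nil =>
    intro F h g hg hF
    rw [gchain_nil hfin h hg hF]
    exact Y.one_mem
  | cons lv rest ih =>
    intro F h g hg hF
    obtain ⟨_, h2, ⟨v, hv, hvj⟩, h4⟩ := glevel hK24 hKD hmem h hg hF
    obtain ⟨u, hu, _, hfix⟩ := h4 v hv hvj
    have := ih _ h2 _ (K.mul_mem (K.inv_mem (hYK hu)) hg) hfix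
    have h5 := Y.mul_mem hu this
    rwa [mul_inv_cancel_left] at h5

/-- reconstruction of an element from the images of the base points. -/
noncomputable def solve : List ℕ → List GLev → ℕ → ℕ → ℕ
  | c :: cs, lv :: rest, acc, acci =>
      match lv.tr.find? (fun u => Nat.beq (applyM u (Nat.pow 2 lv.β)) (applyM acci (Nat.pow 2 c))) with
      | some u => solve cs rest (mulM acc u) (mulM (invM u) acci)
      | none => 0
  | _, _, acc, _ => acc

theorem solve_spec (hK24 : K ≤ M24) (hKD : ∀ g ∈ K, Helper94.Inv g D)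
    (hfin : ∀ F, finOK F = true → ∀ g ∈ K, FixM g F → g = 1)
    (hmem : ∀ v, mem v = true → Rep K v) (g : Equiv.Perm GolayPt) (hg : g ∈ K) (lvs : List GLev) :
    ∀ (F : ℕ) (A : Equiv.Perm GolayPt), gchainOK D Lo finOK mem F lvs = true → A ∈ K → FixM (A⁻¹ * g) F →
      solve (lvs.map fun lv => enc (g (pt lv.β))) lvs (code A) (code A⁻¹) = code g := by
  induction lvs with
  | nil =>
    intro F A h hA hF
    have := gchain_nil hfin h (K.mul_mem (K.inv_mem hA) hg) hF
    rw [inv_mul_eq_one] at this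
    simp only [List.map_nil, solve]
    rw [this]
  | cons lv rest ih =>
    intro F A h hA hF
    obtain ⟨_, h2, ⟨v, hv, hvj⟩, h4⟩ := glevel hK24 hKD hmem h (K.mul_mem (K.inv_mem hA) hg) hF
    have himg : applyM (code A⁻¹) (Nat.pow 2 (enc (g (pt lv.β)))) = 2 ^ enc ((A⁻¹ * g) (pt lv.β)) := by
      rw [Nat.pow_eq, applyM_code_pt, Equiv.Perm.mul_apply]
    rw [List.map_cons, solve, himg]
    cases hf : lv.tr.find? (fun u => Nat.beq (applyM u (Nat.pow 2 lv.β)) (2 ^ enc ((A⁻¹ * g) (pt lv.β)))) with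
    | none =>
      rw [List.find?_eq_none] at hf
      have := hf v hv
      rw [Nat.pow_eq, hvj] at this
      simp at this
    | some w =>
      have hw := List.find?_some hf
      have hwm := List.mem_of_find?_eq_some hf
      rw [Nat.beq_eq, Nat.pow_eq] at hw
      obtain ⟨u, hu, huc, hfix⟩ := h4 w hwm hw
      have h5 := ih _ (A * u) h2 (K.mul_mem hA hu) (by
        rw [mul_inv_rev, mul_assoc]; exact hfix)
      rw [code_mul, mul_inv_rev, code_mul, code_inv u, huc] at h5
      exact h5

/-- all the products of members of the transversals. -/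
noncomputable def glistOf : List GLev → List ℕ
  | [] => [idM]
  | lv :: rest => prodL lv.tr (glistOf rest)

theorem gchain_enum (hK24 : K ≤ M24) (hKD : ∀ g ∈ K, Helper94.Inv g D)
    (hfin : ∀ F, finOK F = true → ∀ g ∈ K, FixM g F → g = 1)
    (hmem : ∀ v, mem v = true → Rep K v) (lvs : List GLev) :
    ∀ F, gchainOK D Lo finOK mem F lvs = true → ∀ g ∈ K, FixM g F → code g ∈ glistOf lvs := by
  induction lvs with
  | nil =>
    intro F h g hg hF
    rw [gchain_nil hfin h hg hF, code_one, glistOf]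
    exact List.mem_singleton.2 rfl
  | cons lv rest ih =>
    intro F h g hg hF
    obtain ⟨_, h2, ⟨v, hv, hvj⟩, h4⟩ := glevel hK24 hKD hmem h hg hF
    obtain ⟨u, hu, huc, hfix⟩ := h4 v hv hvj
    have := ih _ h2 _ (K.mul_mem (K.inv_mem hu) hg) hfix
    rw [glistOf, mem_prodL]
    refine ⟨v, hv, _, this, ?_⟩
    rw [← huc, ← code_mul, mul_inv_cancel_left]

end

/-- final test by closure of the set of fixed points. -/
noncomputable def finClo (D : ℕ) (Lo fin : List ℕ) (F : ℕ) : Bool :=
  closeOK 0 0 [D] Lo F fin && Nat.beq (fin.getLastD F) 16777215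

theorem finClo_spec {K : Subgroup (Equiv.Perm GolayPt)} {D : ℕ} {Lo fin : List ℕ} (hK24 : K ≤ M24)
    (hKD : ∀ g ∈ K, Helper94.Inv g D) :
    ∀ F, finClo D Lo fin F = true → ∀ g ∈ K, FixM g F → g = 1 := by
  intro F h g hg hF
  simp only [finClo, Bool.and_eq_true, Nat.beq_eq] at h
  have h1 := fixM_closeOK Lo (hK24 hg) (mem_AutT_zero 0 g) (inv_single (hKD g hg)) fin F h.1 hF
  rw [h.2] at h1
  exact eq_one_of_fixM_full h1

theorem rep_M24_of_inM24 : ∀ v, inM24 v = true → Rep M24 v := fun v hv =>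
  ⟨permOf v, permOf_mem_M24 hv, code_permOf (validM_of_inM24 hv)⟩

/-- final test by enumeration of the elements of the group of the code fixing the points of a set. -/
noncomputable def finTail (D : ℕ) (Lo fin : List ℕ) (tail : List GLev) (F : ℕ) : Bool :=
  gchainOK 16777215 Lo (finClo 16777215 Lo fin) inM24 F tail &&
    (glistOf tail).all fun c => !Nat.beq (applyM c D) D || Nat.beq c idM

theorem finTail_spec {K : Subgroup (Equiv.Perm GolayPt)} {D : ℕ} {Lo fin : List ℕ} {tail : List GLev}
    (hD : D < 2 ^ 24) (hK24 : K ≤ M24) (hKD : ∀ g ∈ K, Helper94.Inv g D) :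
    ∀ F, finTail D Lo fin tail F = true → ∀ g ∈ K, FixM g F → g = 1 := by
  intro F h g hg hF
  rw [finTail, Bool.and_eq_true] at h
  have h1 := gchain_enum (K := M24) le_rfl (fun g _ => Inv.full g)
    (finClo_spec le_rfl (fun g _ => Inv.full g)) rep_M24_of_inM24 tail F h.1 g (hK24 hg) hF
  have h2 := (List.all_eq_true.1 h.2) _ h1
  have h3 : Nat.beq (applyM (code g) D) D = true := by
    rw [Nat.beq_eq]
    exact (inv_iff_applyM g hD).1 (hKD g hg)
  rw [h3] at h2
  simp only [Bool.not_true, Bool.false_or, Nat.beq_eq] at h2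
  rw [← code_one] at h2
  exact code_injective h2

/-! ### elements intertwining two permutations -/

/-- `q, b q, b² q, …` (`n` terms). -/
noncomputable def imgsFrom (Bc : ℕ) : ℕ → ℕ → List ℕ
  | 0, _ => []
  | n + 1, q => q :: imgsFrom Bc n (Nat.log2 (applyM Bc (Nat.pow 2 q)))

/-- all the possible lists of images of a base made of segments of cycles, of lengths `ns`. -/
noncomputable def allImgs (Bc : ℕ) : List ℕ → List (List ℕ)
  | [] => [[]]
  | n :: r => (List.range 24).flatMap fun q => (allImgs Bc r).map fun l => imgsFrom Bc n q ++ l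

/-- the base made of the segments `(n, p)` of cycles. -/
noncomputable def baseOf (Ac : ℕ) : List (ℕ × ℕ) → List ℕ
  | [] => []
  | s :: r => imgsFrom Ac s.1 s.2 ++ baseOf Ac r

theorem log2_applyM_code (a : Equiv.Perm GolayPt) {p : ℕ} (hp : p < 24) :
    Nat.log2 (applyM (code a) (Nat.pow 2 p)) = enc (a (pt p)) := by
  have := applyM_code_pt a (pt p)
  rw [enc_pt hp] at this
  rw [Nat.pow_eq, this, Nat.log2_two_pow]

theorem map_imgsFrom {y a b : Equiv.Perm GolayPt} (h : y * a = b * y) (n : ℕ) :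
    ∀ p < 24, (imgsFrom (code a) n p).map (fun β => enc (y (pt β))) =
      imgsFrom (code b) n (enc (y (pt p))) := by
  induction n with
  | zero => intro p _; rfl
  | succ n ih =>
    intro p hp
    rw [imgsFrom, imgsFrom, List.map_cons, log2_applyM_code a hp, log2_applyM_code b (enc_lt _),
      ih _ (enc_lt _), pt_enc, pt_enc]
    have : y (a (pt p)) = b (y (pt p)) := by
      have := congrArg (fun f => f (pt p)) h
      simpa [Equiv.Perm.mul_apply] using this
    rw [this]

theorem map_baseOf_mem {y a b : Equiv.Perm GolayPt} (h : y * a = b * y) (segs : List (ℕ × ℕ))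
    (hs : ∀ s ∈ segs, s.2 < 24) :
    (baseOf (code a) segs).map (fun β => enc (y (pt β))) ∈ allImgs (code b) (segs.map Prod.fst) := by
  induction segs with
  | nil => simp [baseOf, allImgs]
  | cons s r ih =>
    rw [baseOf, List.map_append, List.map_cons, allImgs, List.mem_flatMap]
    refine ⟨enc (y (pt s.2)), List.mem_range.2 (enc_lt _), ?_⟩
    rw [List.mem_map]
    refine ⟨_, ih fun t ht => hs t (List.mem_cons_of_mem _ ht), ?_⟩
    rw [map_imgsFrom h _ _ (hs s List.mem_cons_self)]

/-- the list of all the codes of elements `y` of the group of the code with `y a = b y`. -/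
noncomputable def intertw (Ac Bc : ℕ) (ns : List ℕ) (lvs : List GLev) : List ℕ :=
  ((allImgs Bc ns).map fun cs => solve cs lvs idM idM).filter fun c =>
    validM c && Nat.beq (mulM c Ac) (mulM Bc c)

theorem mem_intertw {Lo fin : List ℕ} {lvs : List GLev} {segs : List (ℕ × ℕ)} {a b y : Equiv.Perm GolayPt}
    (hchain : gchainOK 16777215 Lo (finClo 16777215 Lo fin) inM24 0 lvs = true)
    (hbase : lvs.map (fun lv => lv.β) = baseOf (code a) segs)
    (hs : ∀ s ∈ segs, s.2 < 24) (hy : y ∈ M24) (h : y * a = b * y) :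
    code y ∈ intertw (code a) (code b) (segs.map Prod.fst) lvs := by
  rw [intertw, List.mem_filter]
  constructor
  · rw [List.mem_map]
    refine ⟨_, map_baseOf_mem h segs hs, ?_⟩
    have := solve_spec (K := M24) (D := 16777215) (Lo := Lo) (finOK := finClo 16777215 Lo fin) (mem := inM24)
      le_rfl (fun g _ => Inv.full g) (finClo_spec le_rfl (fun g _ => Inv.full g)) rep_M24_of_inM24
      y hy lvs 0 1 hchain M24.one_mem (by
        intro p hp; simp at hp)
    rw [inv_one, code_one] at this
    rw [← hbase, List.map_map]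
    exact this
  · rw [validM_code, Bool.true_and, Nat.beq_eq, ← code_mul, ← code_mul, h]

end Cfsg.Agent.Lib.Helper88
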