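import Mathlib
import Cfsg.Prelude.Def_Sporadic_a
import Cfsg.Prelude.Def_KGroupFacts
import Cfsg.Agent.Lib.Helper88.MSift

/-!
Automorphisms of the groups `GG F0 D`: a rigidity theorem from kernel-checkable data
(a Sylow subgroup of prime order, its normaliser, and further generators normalising the complement).
-/

set_option autoImplicit false
open scoped Pointwise

namespace Cfsg.Agent.Lib.Helper88
open Cfsg.Agent.Lib.Helper94

/-! ### words -/

/-- evaluation of a word: the letter `2 i` is entry `i` of the list, the letter `2 i + 1` its inverse. -/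
def evalW {M : Type*} [Group M] (X : List M) : List ℕ → M
  | [] => 1
  | l :: r => (if l % 2 = 0 then X.getD (l / 2) 1 else (X.getD (l / 2) 1)⁻¹) * evalW X r

theorem map_evalW {M N : Type*} [Group M] [Group N] (f : M →* N) (X : List M) (W : List ℕ) :
    f (evalW X W) = evalW (X.map f) W := by
  induction W with
  | nil => simp [evalW]
  | cons l r ih =>
    have hg : ∀ i, (X.map f).getD i 1 = f (X.getD i 1) := by
      intro i
      rw [← map_one f, List.getD_map]
    rw [evalW, evalW, map_mul, ih, hg]
    split
    · rfl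
    · rw [map_inv]

/-- evaluation of a word on codes. -/
noncomputable def evalC (cs : List ℕ) : List ℕ → ℕ
  | [] => idM
  | l :: r => mulM (if l % 2 = 0 then cs.getD (l / 2) idM else invM (cs.getD (l / 2) idM)) (evalC cs r)

theorem code_evalW (X : List (Equiv.Perm GolayPt)) (W : List ℕ) :
    code (evalW X W) = evalC (X.map code) W := by
  induction W with
  | nil => simp [evalW, evalC, code_one]
  | cons l r ih =>
    have hg : ∀ i, (X.map code).getD i idM = code (X.getD i 1) := by
      intro i
      rw [← code_one, List.getD_map]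
    rw [evalW, evalC, code_mul, ih, hg]
    split
    · rfl
    · rw [code_inv]

/-- powers on codes. -/
noncomputable def powM (c : ℕ) : ℕ → ℕ
  | 0 => idM
  | n + 1 => mulM c (powM c n)

theorem code_pow (g : Equiv.Perm GolayPt) (n : ℕ) : code (g ^ n) = powM (code g) n := by
  induction n with
  | zero => simp [powM, code_one]
  | succ n ih => rw [pow_succ', code_mul, ih, powM]

/-- conjugation on codes. -/
noncomputable def conjM (n c : ℕ) : ℕ := mulM (mulM n c) (invM n)

theorem code_conj (n g : Equiv.Perm GolayPt) : code (n * g * n⁻¹) = conjM (code n) (code g) := by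
  rw [conjM, code_mul, code_mul, code_inv]

/-! ### membership test, converse direction -/

theorem inGG_code {F0 D : ℕ} (hF0 : F0 < 2 ^ 24) (hD : D < 2 ^ 24) {g : Equiv.Perm GolayPt}
    (hg : g ∈ GG F0 D) : inGG F0 D (code g) = true := by
  obtain ⟨h1, h2, h3⟩ := mem_GG.1 hg
  simp only [inGG, Bool.and_eq_true, Nat.beq_eq]
  refine ⟨⟨inM24_code h1, ?_⟩, (inv_iff_applyM g hD).1 h3⟩
  apply Nat.eq_of_testBit_eq
  intro j
  simp only [Nat.land_eq, Nat.testBit_and]
  cases hj : F0.testBit j
  · simp
  · rw [Bool.and_true]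
    by_cases hj24 : j < 24
    · have := h2 (pt j) (by rw [enc_pt hj24]; exact hj)
      rw [← testBit_fixMask, enc_pt hj24] at this
      exact this
    · rw [testBit_ge hF0 (not_lt.1 hj24)] at hj
      exact absurd hj (by simp)

/-! ### straight line programs -/

/-- a straight line program: the step `(0, a, b)` appends the product of the entries `a` and `b`, any other step
`(_, a, _)` the inverse of the entry `a`. -/
noncomputable def slp : List (ℕ × ℕ × ℕ) → List ℕ → List ℕ
  | [], st => st
  | s :: r, st =>
      slp r (st ++ [if s.1 = 0 then mulM (st.getD s.2.1 idM) (st.getD s.2.2 idM) else invM (st.getD s.2.1 idM)])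

theorem rep_getD' {X : Subgroup (Equiv.Perm GolayPt)} {st : List ℕ} (h : ∀ c ∈ st, Rep X c) (i : ℕ) :
    Rep X (st.getD i idM) := by
  by_cases hi : i < st.length
  · rw [List.getD_eq_getElem _ _ hi]
    exact h _ (List.getElem_mem hi)
  · rw [List.getD_eq_default _ _ (not_lt.1 hi)]
    exact Rep.one X

theorem rep_slp {X : Subgroup (Equiv.Perm GolayPt)} (steps : List (ℕ × ℕ × ℕ)) :
    ∀ st : List ℕ, (∀ c ∈ st, Rep X c) → ∀ c ∈ slp steps st, Rep X c := by
  induction steps with
  | nil => intro st h; exact h
  | cons s r ih =>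
    intro st h
    rw [slp]
    apply ih
    intro c hc
    rw [List.mem_append, List.mem_singleton] at hc
    rcases hc with hc | hc
    · exact h c hc
    · rw [hc]
      split
      · exact (rep_getD' h _).mul (rep_getD' h _)
      · exact (rep_getD' h _).inv

/-! ### conjugacy of subgroups of prime order -/

theorem exists_conj_pow {H : Type*} [Group H] [Finite H] {p : ℕ} [Fact p.Prime]
    (hp2 : ¬ p ^ 2 ∣ Nat.card H) {a b : H} (ha : a ^ p = 1) (ha1 : a ≠ 1) (hb : b ^ p = 1) (hb1 : b ≠ 1) :
    ∃ g : H, ∃ k : ℕ, g * b * g⁻¹ = a ^ k := by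
  have hp : p.Prime := Fact.out
  have key : ∀ x : H, x ^ p = 1 → x ≠ 1 → ∃ P : Sylow p H, (P : Subgroup H) = Subgroup.zpowers x := by
    intro x hx hx1
    have hord : orderOf x = p := orderOf_eq_prime hx hx1
    have hcard : Nat.card (Subgroup.zpowers x) = p := by rw [Nat.card_zpowers, hord]
    have hpg : IsPGroup p (Subgroup.zpowers x) := IsPGroup.of_card (n := 1) (by rw [hcard, pow_one])
    have hidx : ¬ p ∣ (Subgroup.zpowers x).index := by
      intro hd
      apply hp2
      rw [← (Subgroup.zpowers x).card_mul_index, hcard, pow_two]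
      exact Nat.mul_dvd_mul_left p hd
    exact ⟨hpg.toSylow hidx, rfl⟩
  obtain ⟨P, hP⟩ := key a ha ha1
  obtain ⟨Q, hQ⟩ := key b hb hb1
  obtain ⟨g, hg⟩ := MulAction.exists_smul_eq H Q P
  have h1 : g * b * g⁻¹ ∈ (P : Subgroup H) := by
    rw [← hg, Sylow.coe_subgroup_smul, Subgroup.mem_pointwise_smul_iff_inv_smul_mem, hQ]
    have : (MulAut.conj g)⁻¹ • (g * b * g⁻¹) = b := by
      simp [MulAut.smul_def, mul_assoc]
    rw [this]
    exact Subgroup.mem_zpowers b
  rw [hP] at h1
  obtain ⟨k, hk⟩ := (mem_powers_iff_mem_zpowers (x := a)).2 h1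
  exact ⟨g, k, hk.symm⟩

end Cfsg.Agent.Lib.Helper88
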