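import Mathlib
import Cfsg.Prelude.Def_Sporadic_a
import Cfsg.Prelude.Def_Spor_Mathieu
import Cfsg.Agent.Lib.Helper88.MChain

/-! The five Mathieu groups in the form `GG F0 D`. -/

set_option autoImplicit false
open scoped Pointwise

namespace Cfsg.Agent.Lib.Helper88
open Cfsg.Agent.Lib.Helper94 Cfsg.Spor

theorem fixM_zero (g : Equiv.Perm GolayPt) : FixM g 0 := by
  intro p hp
  simp at hp

theorem fixM_inf_iff (g : Equiv.Perm GolayPt) : FixM g 8388608 ↔ g none = none := by
  constructor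
  · intro h
    exact h none (by decide)
  · intro h p hp
    have : ∀ q : GolayPt, (8388608 : ℕ).testBit (enc q) = true → q = none := by decide
    rw [this p hp, h]

theorem fixM_inf_zero_iff (g : Equiv.Perm GolayPt) :
    FixM g 8388609 ↔ g none = none ∧ g (some 0) = some 0 := by
  constructor
  · intro h
    exact ⟨h none (by decide), h (some 0) (by decide)⟩
  · intro h p hp
    have : ∀ q : GolayPt, (8388609 : ℕ).testBit (enc q) = true → q = none ∨ q = some 0 := by decide
    rcases this p hp with rfl | rfl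
    · exact h.1
    · exact h.2

theorem fixM_one_iff (g : Equiv.Perm GolayPt) : FixM g 1 ↔ g (some 0) = some 0 := by
  constructor
  · intro h
    exact h (some 0) (by decide)
  · intro h p hp
    have : ∀ q : GolayPt, (1 : ℕ).testBit (enc q) = true → q = some 0 := by decide
    rw [this p hp, h]

theorem squareDodecad_eq : squareDodecad = unm 340831 := by
  rw [squareDodecad, ← support₂_vec]
  congr 1
  exact (vec_gen_qr 0).symm

theorem M24_eq : (M24 : Subgroup (Equiv.Perm GolayPt)) = GG 0 16777215 := by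
  ext g
  rw [mem_GG]
  exact ⟨fun h => ⟨h, fixM_zero g, Inv.full g⟩, fun h => h.1⟩

theorem M23_eq : M23 = GG 8388608 16777215 := by
  ext g
  rw [mem_GG, M23, Subgroup.mem_inf, MulAction.mem_stabilizer_iff, fixM_inf_iff]
  exact ⟨fun h => ⟨h.1, h.2, Inv.full g⟩, fun h => ⟨h.1, h.2.1⟩⟩

theorem M22_eq : M22 = GG 8388609 16777215 := by
  ext g
  rw [mem_GG, M22, M23, Subgroup.mem_inf, Subgroup.mem_inf, MulAction.mem_stabilizer_iff,
    MulAction.mem_stabilizer_iff, fixM_inf_zero_iff]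
  exact ⟨fun h => ⟨h.1.1, ⟨h.1.2, h.2⟩, Inv.full g⟩, fun h => ⟨⟨h.1, h.2.1.1⟩, h.2.1.2⟩⟩

theorem M12_eq : M12 = GG 0 340831 := by
  ext g
  rw [mem_GG, M12, Subgroup.mem_inf, MulAction.mem_stabilizer_iff, squareDodecad_eq]
  exact ⟨fun h => ⟨h.1, fixM_zero g, h.2⟩, fun h => ⟨h.1, h.2.2⟩⟩

theorem M11_eq : M11 = GG 1 340831 := by
  ext g
  rw [mem_GG, M11, M12, Subgroup.mem_inf, Subgroup.mem_inf, MulAction.mem_stabilizer_iff,
    MulAction.mem_stabilizer_iff, squareDodecad_eq, fixM_one_iff]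
  exact ⟨fun h => ⟨h.1.1, h.2, h.1.2⟩, fun h => ⟨⟨h.1, h.2.2⟩, h.2.1⟩⟩

theorem M22_le_M23 : M22 ≤ M23 := inf_le_left

end Cfsg.Agent.Lib.Helper88
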