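import Cfsg.Agent.Lib.Helper88.Invariant

set_option autoImplicit false

namespace Cfsg.Agent.Lib.Helper88

open Cfsg Cfsg.FusionSystem Cfsg.Agent.Lib.Helper87

variable {Ω : Type*} [Group Ω] {S : Subgroup Ω}

/-- A `p`-element of `Aut_F(P)`, `P` fully automized, is conjugate in `Aut_F(P)` into `Aut_S(P)`. -/
theorem exists_conj_mem_autInducedBy [Finite S] {p : ℕ} [Fact p.Prime] {F : FusionSystem S}
    {P : Subgroup Ω} (hfa : F.IsFullyAutomized p P) {β : MulAut P}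
    (hβ : β ∈ F.autGroup P) (hp : ∃ k : ℕ, β ^ p ^ k = 1) :
    ∃ γ ∈ F.autGroup P, γ * β * γ⁻¹ ∈ autInducedBy S P := by
  obtain ⟨hPS, Sy, hSy⟩ := hfa
  have : Finite P := finite_of_le' hPS
  let b : F.autGroup P := ⟨β, hβ⟩
  have hb : IsPGroup p (Subgroup.zpowers b) := by
    obtain ⟨k, hk⟩ := hp
    rintro ⟨c, hc⟩
    obtain ⟨n, rfl⟩ := Subgroup.mem_zpowers_iff.mp hc
    refine ⟨k, Subtype.ext ?_⟩
    have hbk : b ^ p ^ k = 1 := Subtype.ext hk
    show (b ^ n) ^ p ^ k = 1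
    rw [← zpow_natCast, ← zpow_mul, mul_comm, zpow_mul, zpow_natCast, hbk, one_zpow]
  obtain ⟨Q, hQ⟩ := hb.exists_le_sylow
  obtain ⟨c, hc⟩ := MulAction.exists_smul_eq (F.autGroup P) Q Sy
  have h1 : c * b * c⁻¹ ∈ (c • Q : Sylow p (F.autGroup P)) := by
    rw [← SetLike.mem_coe, Sylow.coe_smul]
    exact ⟨b, hQ (Subgroup.mem_zpowers b), rfl⟩
  rw [hc] at h1
  have h2 : c * b * c⁻¹ ∈ (autInducedBy S P).subgroupOf (F.autGroup P) := hSy ▸ h1
  exact ⟨c, c.2, Subgroup.mem_subgroupOf.mp h2⟩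

/-- Fully automized case: an `F`-automorphism of `P` that is the identity on a normal `F`-centric
subgroup `Q` of `P` is conjugation by an element of `Z(Q)`. -/
theorem aut_eq_conj_of_fullyAutomized [Finite S] {p : ℕ} [Fact p.Prime] (hS : IsPGroup p S)
    {F : FusionSystem S} {P Q : Subgroup Ω} (hfa : F.IsFullyAutomized p P) (hQP : Q ≤ P)
    (hN : P ≤ Subgroup.normalizer (Q : Set Ω)) (hQ : F.IsCentric Q) {a : Ω → Ω}
    (ha : Iso F P P a) (haQ : ∀ y ∈ Q, a y = y) :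
    ∃ z ∈ Q, z ∈ Subgroup.centralizer (Q : Set Ω) ∧ ∀ y ∈ P, a y = z * y * z⁻¹ := by
  have hPS : P ≤ S := hfa.1
  have hfinP : Finite P := finite_of_le' hPS
  obtain ⟨α, hα, eα⟩ := ha.exists_aut
  have hαQ : ∀ y : P, (y : Ω) ∈ Q → α y = y := fun y hy => Subtype.ext (by rw [eα, haQ y hy])
  -- the "difference" of α lies in Q
  have hζ : ∀ x : P, ((x⁻¹ * α x : P) : Ω) ∈ Q := by
    intro x
    apply hQ.2 Q (isConj_refl F hQ.1)
    rw [mem_centralizerIn_iff]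
    refine ⟨hPS (x⁻¹ * α x).2, fun y hy => ?_⟩
    have hxy : (x : Ω) * y * (x : Ω)⁻¹ ∈ Q := (Subgroup.mem_normalizer_iff.1 (hN x.2) y).1 hy
    have h1 : α (x * ⟨y, hQP hy⟩ * x⁻¹) = x * ⟨y, hQP hy⟩ * x⁻¹ := hαQ _ hxy
    rw [map_mul, map_mul, map_inv, hαQ ⟨y, hQP hy⟩ hy] at h1
    have h2 : ((α x : P) : Ω) * y * ((α x : P) : Ω)⁻¹ = (x : Ω) * y * (x : Ω)⁻¹ :=
      congrArg Subtype.val h1
    show y * ((x : Ω)⁻¹ * ((α x : P) : Ω)) = (x : Ω)⁻¹ * ((α x : P) : Ω) * y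
    have h3 : ((α x : P) : Ω) * y = (x : Ω) * y * (x : Ω)⁻¹ * ((α x : P) : Ω) := by
      rw [← h2]; group
    calc y * ((x : Ω)⁻¹ * ((α x : P) : Ω))
        = (x : Ω)⁻¹ * ((x : Ω) * y * (x : Ω)⁻¹ * ((α x : P) : Ω)) := by group
      _ = (x : Ω)⁻¹ * (((α x : P) : Ω) * y) := by rw [h3]
      _ = (x : Ω)⁻¹ * ((α x : P) : Ω) * y := by group
  have hpow : ∀ (n : ℕ) (x : P), (α ^ n) x = x * (x⁻¹ * α x) ^ n := by
    intro n
    induction n with
    | zero => intro x; simp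
    | succ n ih =>
      intro x
      rw [pow_succ', MulAut.mul_apply, ih, map_mul, map_pow, hαQ _ (hζ x), pow_succ', ← mul_assoc,
        mul_inv_cancel_left]
  have hαp : ∃ k : ℕ, α ^ p ^ k = 1 := by
    obtain ⟨k, hk⟩ := (IsPGroup.iff_card.mp (hS.to_le hPS))
    refine ⟨k, ?_⟩
    ext x
    rw [hpow, ← hk, pow_card_eq_one']
    simp
  obtain ⟨γ, hγ, hγα⟩ := exists_conj_mem_autInducedBy hfa hα hαp
  obtain ⟨s, hs, es⟩ := (mem_autInducedBy_iff S P _).1 hγα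
  have hγm : Mor F P (autFun γ) := (mem_autGroup_iff F hPS γ).1 hγ
  have hconj : F.IsConj Q (img Q (autFun γ)) := ((hγm.mono hQP).iso_img).isConj
  have hsQ : s ∈ img Q (autFun γ) := by
    apply hQ.2 _ hconj
    rw [mem_centralizerIn_iff]
    refine ⟨hs, fun w hw => ?_⟩
    obtain ⟨y, hy, rfl⟩ := ((hγm.mono hQP).mem_img w).1 hw
    have h1 := es (γ ⟨y, hQP hy⟩)
    rw [MulAut.mul_apply, MulAut.mul_apply, MulAut.inv_apply_self, hαQ ⟨y, hQP hy⟩ hy] at h1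
    rw [autFun_apply γ (hQP hy)]
    calc ((γ ⟨y, hQP hy⟩ : P) : Ω) * s = s * ((γ ⟨y, hQP hy⟩ : P) : Ω) * s⁻¹ * s := by rw [← h1]
      _ = s * ((γ ⟨y, hQP hy⟩ : P) : Ω) := by group
  obtain ⟨z, hz, hzs⟩ := ((hγm.mono hQP).mem_img s).1 hsQ
  rw [autFun_apply γ (hQP hz)] at hzs
  have hconjz : ∀ y ∈ P, a y = z * y * z⁻¹ := by
    intro y hy
    have h1 := es (γ ⟨y, hy⟩)
    rw [MulAut.mul_apply, MulAut.mul_apply, MulAut.inv_apply_self, ← hzs] at h1
    have h2 : γ (α ⟨y, hy⟩) = γ (⟨z, hQP hz⟩ * ⟨y, hy⟩ * ⟨z, hQP hz⟩⁻¹) := by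
      apply Subtype.ext
      rw [h1, map_mul, map_mul, map_inv]
      rfl
    have h3 := congrArg Subtype.val (γ.injective h2)
    rw [eα] at h3
    exact h3
  refine ⟨z, hz, ?_, hconjz⟩
  rw [Subgroup.mem_centralizer_iff]
  intro y hy
  have h1 := hconjz y (hQP hy)
  rw [haQ y hy] at h1
  calc y * z = z * y * z⁻¹ * z := by rw [← h1]
    _ = z * y := by group

/-- An `F`-automorphism of `P` that is the identity on a normal `F`-centric subgroup `Q` of `P` is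
conjugation by an element of `Z(Q)`. -/
theorem aut_eq_conj_of_normal_centric [Finite S] {p : ℕ} [Fact p.Prime] (hS : IsPGroup p S)
    {F : FusionSystem S} (hF : F.IsSaturated p) {P Q : Subgroup Ω} (hPS : P ≤ S) (hQP : Q ≤ P)
    (hN : P ≤ Subgroup.normalizer (Q : Set Ω)) (hQ : F.IsCentric Q) {a : Ω → Ω}
    (ha : Iso F P P a) (haQ : ∀ y ∈ Q, a y = y) :
    ∃ z ∈ Q, z ∈ Subgroup.centralizer (Q : Set Ω) ∧ ∀ y ∈ P, a y = z * y * z⁻¹ := by
  obtain ⟨P₁, hconj, hfa, -⟩ := hF P hPS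
  obtain ⟨c, hc⟩ := (isConj_iff F P P₁).1 hconj
  obtain ⟨c', hc', hc1, hc2⟩ := hc.symm
  have hcQ : Iso F Q (img Q c) c := (hc.1.mono hQP).iso_img
  have hQ₁P₁ : img Q c ≤ P₁ := by
    intro w hw
    obtain ⟨y, hy, rfl⟩ := hcQ.surj hw
    exact hc.map_mem (hQP hy)
  have hN₁ : P₁ ≤ Subgroup.normalizer ((img Q c : Subgroup Ω) : Set Ω) := by
    have key : ∀ u ∈ P₁, ∀ w ∈ img Q c, u * w * u⁻¹ ∈ img Q c := by
      intro u hu w hw
      obtain ⟨x, hx, rfl⟩ := hc.surj hu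
      obtain ⟨y, hy, rfl⟩ := hcQ.surj hw
      rw [← hc.1.map_conj hx (hQP hy)]
      exact hcQ.map_mem ((Subgroup.mem_normalizer_iff.1 (hN hx) y).1 hy)
    intro u hu
    rw [Subgroup.mem_normalizer_iff]
    intro w
    refine ⟨key u hu w, fun hw => ?_⟩
    have := key u⁻¹ (P₁.inv_mem hu) _ hw
    simpa [mul_assoc] using this
  have ha₁ : Iso F P₁ P₁ (c ∘ (a ∘ c')) := (hc'.trans ha).trans hc
  obtain ⟨s, hs, hsC, hsa⟩ := aut_eq_conj_of_fullyAutomized hS hfa hQ₁P₁ hN₁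
    (isCentric_conj hQ hcQ.isConj) ha₁ (by
      intro w hw
      obtain ⟨y, hy, rfl⟩ := hcQ.surj hw
      show c (a (c' (c y))) = c y
      rw [hc1 y (hQP hy), haQ y hy])
  obtain ⟨z, hz, rfl⟩ := hcQ.surj hs
  have hconjz : ∀ y ∈ P, a y = z * y * z⁻¹ := by
    intro y hy
    have h1 := hsa (c y) (hc.map_mem hy)
    have h2 : c (a y) = c (z * y * z⁻¹) := by
      rw [hc.1.map_conj (hQP hz) hy, ← h1]
      show c (a y) = c (a (c' (c y)))
      rw [hc1 y hy]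
    exact hc.1.inj (ha.map_mem hy) (P.mul_mem (P.mul_mem (hQP hz) hy) (P.inv_mem (hQP hz))) h2
  refine ⟨z, hz, ?_, hconjz⟩
  rw [Subgroup.mem_centralizer_iff]
  intro y hy
  have h1 := hconjz y (hQP hy)
  rw [haQ y hy] at h1
  calc y * z = z * y * z⁻¹ * z := by rw [← h1]
    _ = z * y := by group

/-- Normal case: two maps of `F` on `P` that agree on a normal `F`-centric subgroup `Q` differ by
conjugation by an element of `Z(Q)`. -/
theorem mor_agree_normal_centric [Finite S] {p : ℕ} [Fact p.Prime] (hS : IsPGroup p S)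
    {F : FusionSystem S} (hF : F.IsSaturated p) {P Q : Subgroup Ω} (hQP : Q ≤ P)
    (hN : P ≤ Subgroup.normalizer (Q : Set Ω)) (hQ : F.IsCentric Q) {f f' : Ω → Ω}
    (hf : Mor F P f) (hf' : Mor F P f') (hag : ∀ y ∈ Q, f y = f' y) :
    ∃ z ∈ Q, z ∈ Subgroup.centralizer (Q : Set Ω) ∧ ∀ y ∈ P, f' y = f (z * y * z⁻¹) := by
  have hPS : P ≤ S := hf.le
  have hfinP : Finite P := finite_of_le' hPS
  have hfQ : Iso F Q (img Q f) f := (hf.mono hQP).iso_img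
  have hfP : Iso F P (img P f) f := hf.iso_img
  have hmem : ∀ x ∈ P, f' x ∈ img P f := by
    intro x hx
    have h1 : (f x)⁻¹ * f' x ∈ img Q f := by
      apply hQ.2 _ hfQ.isConj
      rw [mem_centralizerIn_iff]
      refine ⟨S.mul_mem (S.inv_mem (hf.mem hx)) (hf'.mem hx), fun w hw => ?_⟩
      obtain ⟨y, hy, rfl⟩ := hfQ.surj hw
      have hxy : x * y * x⁻¹ ∈ Q := (Subgroup.mem_normalizer_iff.1 (hN hx) y).1 hy
      have h2 := hag _ hxy
      rw [hf.map_conj hx (hQP hy), hf'.map_conj hx (hQP hy), ← hag y hy] at h2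
      have h3 : f' x * f y = f x * f y * (f x)⁻¹ * f' x := by rw [h2]; group
      calc f y * ((f x)⁻¹ * f' x) = (f x)⁻¹ * (f x * f y * (f x)⁻¹ * f' x) := by group
        _ = (f x)⁻¹ * (f' x * f y) := by rw [h3]
        _ = (f x)⁻¹ * f' x * f y := by group
    obtain ⟨y, hy, hy'⟩ := hfQ.surj h1
    have h4 : f' x = f (x * y) := by
      rw [hf.map_mul hx (hQP hy), hy']; group
    rw [h4]
    exact hfP.map_mem (P.mul_mem hx (hQP hy))
  obtain ⟨j, hj, hj1, hj2⟩ := hfP.symm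
  have ha : Iso F P P (j ∘ f') :=
    (hf'.comp hj.1 hmem).iso_self (fun x hx => hj.map_mem (hmem x hx))
  obtain ⟨z, hz, hzC, hza⟩ := aut_eq_conj_of_normal_centric hS hF hPS hQP hN hQ ha (by
    intro y hy
    show j (f' y) = y
    rw [← hag y hy, hj1 y (hQP hy)])
  refine ⟨z, hz, hzC, fun y hy => ?_⟩
  rw [← hza y hy]
  show f' y = f (j (f' y))
  rw [hj2 _ (hmem y hy)]

/-- Two maps of `F` on `P` that agree on an `F`-centric subgroup `Q` differ by conjugation by an element of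
`Z(Q)`. -/
theorem mor_agree_centric [Finite S] {p : ℕ} [Fact p.Prime] (hS : IsPGroup p S)
    {F : FusionSystem S} (hF : F.IsSaturated p) {P : Subgroup Ω} :
    ∀ (n : ℕ) (Q : Subgroup Ω), Nat.card P - Nat.card Q = n → Q ≤ P → F.IsCentric Q →
      ∀ f f' : Ω → Ω, Mor F P f → Mor F P f' → (∀ y ∈ Q, f y = f' y) →
      ∃ z ∈ Q, z ∈ Subgroup.centralizer (Q : Set Ω) ∧ ∀ y ∈ P, f' y = f (z * y * z⁻¹) := by
  intro n
  induction n using Nat.strong_induction_on with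
  | _ n ih =>
    intro Q hn hQP hQ f f' hf hf' hag
    have hPS : P ≤ S := hf.le
    have hfinP : Finite P := finite_of_le' hPS
    by_cases hQeq : Q = P
    · subst hQeq
      exact ⟨1, Q.one_mem, Subgroup.one_mem _, fun y hy => by simp [hag y hy]⟩
    · obtain ⟨x, hxN, hxQ⟩ := exists_mem_normalizerIn_not_mem (hS.to_le hPS) hQP hQeq
      have hQ₁P : normalizerIn P Q ≤ P := normalizerIn_le P Q
      have hQQ₁ : Q ≤ normalizerIn P Q := le_normalizerIn hQP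
      obtain ⟨z, hz, hzC, hzf⟩ := mor_agree_normal_centric hS hF hQQ₁ inf_le_right hQ
        (hf.mono hQ₁P) (hf'.mono hQ₁P) hag
      have hzP : z ∈ P := hQP hz
      have hc : Mor F P (fun y => z * y * z⁻¹) := mor_conj F hPS (hPS hzP)
      have hf₂ : Mor F P (f ∘ fun y => z * y * z⁻¹) :=
        hc.comp hf (fun y hy => P.mul_mem (P.mul_mem hzP hy) (P.inv_mem hzP))
      have hlt : Q < normalizerIn P Q := lt_of_le_of_ne hQQ₁ (fun h => hxQ (h ▸ hxN))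
      have hfin₁ : Finite (normalizerIn P Q) := finite_of_le' (hQ₁P.trans hPS)
      have hcard : Nat.card Q < Nat.card (normalizerIn P Q) := by
        by_contra hcon
        exact hlt.ne (Subgroup.eq_of_le_of_card_ge hlt.le (not_lt.mp hcon))
      have hcard2 : Nat.card (normalizerIn P Q) ≤ Nat.card P := Subgroup.card_le_of_le hQ₁P
      obtain ⟨z₁, hz₁, hz₁C, hz₁f⟩ := ih (Nat.card P - Nat.card (normalizerIn P Q)) (by omega)
        (normalizerIn P Q) rfl hQ₁P (isCentric_of_le hQ hQQ₁ (hQ₁P.trans hPS))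
        (f ∘ fun y => z * y * z⁻¹) f' hf₂ hf' (fun y hy => (hzf y hy).symm)
      have hz₁C' : z₁ ∈ Subgroup.centralizer (Q : Set Ω) := Subgroup.centralizer_le hQQ₁ hz₁C
      have hz₁Q : z₁ ∈ Q := hQ.2 Q (isConj_refl F hQ.1) ⟨hPS (hQ₁P hz₁), hz₁C'⟩
      refine ⟨z * z₁, Q.mul_mem hz hz₁Q, Subgroup.mul_mem _ hzC hz₁C', fun y hy => ?_⟩
      rw [hz₁f y hy]
      show f (z * (z₁ * y * z₁⁻¹) * z⁻¹) = f (z * z₁ * y * (z * z₁)⁻¹)
      congr 1
      group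

end Cfsg.Agent.Lib.Helper88
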