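import Cfsg.Agent.Lib.Helper88.Invariant
import Cfsg.Agent.Lib.Helper88.Deps
import Cfsg.Agent.S5095

set_option autoImplicit false

namespace Cfsg.Agent.Lib.Helper88

open Cfsg Cfsg.FusionSystem Cfsg.Agent.Lib.Helper87

variable {Ω : Type*} [Group Ω] {S : Subgroup Ω}

/-- One step: an `F`-automorphism `a` of `S` that is a map of `E` on the `F`-centric subgroup `P` is a map
of `E` on `N_S(P)`. -/
theorem mor_normalizerIn_of_centric [Finite S] {p : ℕ} [Fact p.Prime] (hS : IsPGroup p S)
    {E F : FusionSystem S} (hE : E.IsSaturated p) (hF : F.IsSaturated p) (hEF : E.IsSubsystemOf F)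
    {a : Ω → Ω} (ha : Iso F S S a) {P : Subgroup Ω} (hPc : F.IsCentric P) (hPa : Mor E P a) :
    Mor E (normalizerIn S P) a := by
  have hPS : P ≤ S := hPc.1
  have hiso : Iso E P (img P a) a := hPa.iso_img
  have hP'c : F.IsCentric (img P a) := isCentric_conj hPc (iso_of_subsystem hEF hiso).isConj
  have hrec : E.IsReceptive (img P a) :=
    ((Deps.s5077 p hS E).1 hE).2 _ (isFullyCentralized_of_isCentric (isCentric_of_subsystem hEF hP'c))
  obtain ⟨f', hf', hf'a⟩ := receptive_extend hrec hiso (normalizerIn S P) (normalizerIn_le S P)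
    inf_le_right (fun g hg => ⟨a g, ha.1.mem (normalizerIn_le S P hg), fun x hx =>
      ha.1.map_conj (normalizerIn_le S P hg) (hPS hx)⟩)
  have hf'' : Mor E (normalizerIn S P) f' := hf'.mono le_sup_right
  obtain ⟨φ, hφ, eφ⟩ := ha.1.mono (normalizerIn_le S P)
  obtain ⟨φ', hφ', eφ'⟩ := mor_of_subsystem hEF hf''
  obtain ⟨z, hzP, -, hz⟩ := Cfsg.Agent.S5095.result p hS F hF (normalizerIn S P) P (le_normalizerIn hPS) hPc φ φ' hφ hφ'
    (fun x hx => by rw [eφ, eφ', hf'a x hx])
  have hzN : (z : Ω) ∈ normalizerIn S P := z.2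
  have hc : Mor E (normalizerIn S P) (fun y => (z : Ω)⁻¹ * y * (z : Ω)⁻¹⁻¹) :=
    mor_conj E (normalizerIn_le S P) (S.inv_mem (hPS hzP))
  have hmem : ∀ y ∈ normalizerIn S P, (z : Ω)⁻¹ * y * (z : Ω)⁻¹⁻¹ ∈ normalizerIn S P :=
    fun y hy => Subgroup.mul_mem _ (Subgroup.mul_mem _ (Subgroup.inv_mem _ hzN) hy)
      (Subgroup.inv_mem _ (Subgroup.inv_mem _ hzN))
  refine (hc.comp hf'' hmem).congr (fun y hy => ?_)
  show f' ((z : Ω)⁻¹ * y * (z : Ω)⁻¹⁻¹) = a y
  have h1 := hz ⟨(z : Ω)⁻¹ * y * (z : Ω)⁻¹⁻¹, hmem y hy⟩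
  rw [eφ', eφ] at h1
  rw [h1]
  congr 1
  show (z : Ω) * ((z : Ω)⁻¹ * y * (z : Ω)⁻¹⁻¹) * (z : Ω)⁻¹ = y
  group

/-- An `F`-automorphism of `S` whose restriction to some `F`-centric subgroup is a map of the saturated
subsystem `E` (over the same `S`) is a map of `E`. -/
theorem mor_top_of_centric [Finite S] {p : ℕ} [Fact p.Prime] (hS : IsPGroup p S)
    {E F : FusionSystem S} (hE : E.IsSaturated p) (hF : F.IsSaturated p) (hEF : E.IsSubsystemOf F)
    {a : Ω → Ω} (ha : Iso F S S a) {R : Subgroup Ω} (hR : F.IsCentric R) (hRa : Mor E R a) :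
    Mor E S a := by
  have key : ∀ n : ℕ, ∀ P : Subgroup Ω, F.IsCentric P → Mor E P a → Nat.card S - Nat.card P = n →
      Mor E S a := by
    intro n
    induction n using Nat.strong_induction_on with
    | _ n ih =>
      intro P hPc hPa hn
      by_cases hPS : P = S
      · exact hPS ▸ hPa
      · obtain ⟨x, hxN, hxP⟩ := exists_mem_normalizerIn_not_mem hS hPc.1 hPS
        have hN := mor_normalizerIn_of_centric hS hE hF hEF ha hPc hPa
        have hlt : P < normalizerIn S P :=
          lt_of_le_of_ne (le_normalizerIn hPc.1) (fun h => hxP (h ▸ hxN))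
        have : Finite (normalizerIn S P) := finite_of_le' (normalizerIn_le S P)
        have hcard : Nat.card P < Nat.card (normalizerIn S P) := by
          by_contra hcon
          exact hlt.ne (Subgroup.eq_of_le_of_card_ge hlt.le (not_lt.mp hcon))
        have hcard2 : Nat.card (normalizerIn S P) ≤ Nat.card S :=
          Subgroup.card_le_of_le (normalizerIn_le S P)
        exact ih (Nat.card S - Nat.card (normalizerIn S P)) (by omega) _
          (isCentric_of_le hPc (le_normalizerIn hPc.1) (normalizerIn_le S P)) hN rfl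
  exact key _ R hR hRa rfl

end Cfsg.Agent.Lib.Helper88
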