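import Mathlib
import Cfsg.Prelude.Def_Sporadic_a
import Cfsg.Prelude.Def_KGroupFacts
import Cfsg.Agent.Lib.Helper88.MOut

/-!
The rigidity theorem: every injective endomorphism of `GG F0 D` is a conjugation.
-/

set_option autoImplicit false
open scoped Pointwise

namespace Cfsg.Agent.Lib.Helper88
open Cfsg.Agent.Lib.Helper94

/-- a stage: a further generator `w` with `w v = v ^ e w`; `Y` lists all the elements `y` of the group of the code
with `y v = v ^ e y`; `R` is a list of relators in the generators up to `w`. -/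
structure Stage where
  e : ℕ
  Y : List ℕ
  R : List (List ℕ)

/-- all the tuples of codes extending `pre` compatible with the stages. -/
noncomputable def tuples (F0 D : ℕ) : List ℕ → List Stage → List (List ℕ)
  | pre, [] => [pre]
  | pre, st :: rest =>
      (st.Y.filter fun c => inGG F0 D c && st.R.all fun W => Nat.beq (evalC (pre ++ [c]) W) idM).flatMap
        fun c => tuples F0 D (pre ++ [c]) rest

/-- the standard generators satisfy the relations of the stages. -/
noncomputable def stdOK (vc : ℕ) : List ℕ → List ℕ → List Stage → Bool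
  | _, [], [] => true
  | pre, c :: suf, st :: rest =>
      Nat.beq (mulM c vc) (mulM (powM vc st.e) c) &&
      st.R.all (fun W => Nat.beq (evalC (pre ++ [c]) W) idM) && stdOK vc (pre ++ [c]) suf rest
  | _, _, _ => false

theorem mem_tuples {F0 D : ℕ} (hF0 : F0 < 2 ^ 24) (hD : D < 2 ^ 24) {vg : ↥(GG F0 D)}
    (φ : ↥(GG F0 D) →* Equiv.Perm GolayPt) (hran : ∀ g, φ g ∈ GG F0 D)
    (hφv : φ vg = (vg : Equiv.Perm GolayPt)) (stages : List Stage)
    (hY : ∀ st ∈ stages, ∀ y ∈ M24, y * (vg : Equiv.Perm GolayPt) = (vg : Equiv.Perm GolayPt) ^ st.e * y →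
      code y ∈ st.Y) :
    ∀ (pre suf : List ↥(GG F0 D)),
      stdOK (code (vg : Equiv.Perm GolayPt)) (pre.map fun g : ↥(GG F0 D) => code (g : Equiv.Perm GolayPt))
        (suf.map fun g : ↥(GG F0 D) => code (g : Equiv.Perm GolayPt)) stages = true →
      ((pre ++ suf).map fun g : ↥(GG F0 D) => code (φ g)) ∈ tuples F0 D (pre.map fun g : ↥(GG F0 D) => code (φ g)) stages := by
  induction stages with
  | nil =>
    intro pre suf h
    cases suf with
    | nil => simp [tuples]
    | cons w suf => simp [stdOK] at h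
  | cons st rest ih =>
    intro pre suf h
    cases suf with
    | nil => simp [stdOK] at h
    | cons w suf =>
      rw [List.map_cons, stdOK, Bool.and_eq_true, Bool.and_eq_true, Nat.beq_eq] at h
      obtain ⟨⟨h1, h2⟩, h3⟩ := h
      rw [tuples, List.mem_flatMap]
      refine ⟨code (φ w), ?_, ?_⟩
      · rw [List.mem_filter, Bool.and_eq_true]
        refine ⟨?_, inGG_code hF0 hD (hran w), ?_⟩
        · apply hY st List.mem_cons_self _ (mem_GG.1 (hran w)).1
          rw [← code_pow, ← code_mul, ← code_mul] at h1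
          have h4 : w * vg = vg ^ st.e * w := Subtype.ext (by simpa using code_injective h1)
          have h5 := congrArg φ h4
          rw [map_mul, map_mul, map_pow, hφv] at h5
          exact h5
        · rw [List.all_eq_true] at h2 ⊢
          intro W hW
          have h4 := h2 W hW
          rw [Nat.beq_eq] at h4 ⊢
          have e1 : (pre.map fun g : ↥(GG F0 D) => code (g : Equiv.Perm GolayPt)) ++ [code (w : Equiv.Perm GolayPt)] =
              (((pre ++ [w]).map (GG F0 D).subtype).map code) := by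
            simp only [List.map_append, List.map_map, List.map_cons, List.map_nil, Function.comp_def,
              Subgroup.subtype_apply]
          rw [e1, ← code_evalW, ← map_evalW, ← code_one] at h4
          have h5 : evalW (pre ++ [w]) W = 1 := Subtype.ext (by simpa using code_injective h4)
          have e2 : (pre.map fun g : ↥(GG F0 D) => code (φ g)) ++ [code (φ w)] = (((pre ++ [w]).map φ).map code) := by
            simp only [List.map_append, List.map_map, List.map_cons, List.map_nil, Function.comp_def]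
          rw [e2, ← code_evalW, ← map_evalW, h5, map_one, code_one]
      · have h6 := ih (fun st' hst' => hY st' (List.mem_cons_of_mem _ hst')) (pre ++ [w]) suf (by
          simpa using h3)
        simpa using h6

/-- normalisation of the image of `u` by powers of `v`. -/
noncomputable def k3OK (p uc vc : ℕ) : Bool :=
  (List.range p).all fun k => Nat.beq k 0 || (List.range p).any fun j =>
    Nat.beq (conjM (powM vc j) (powM uc k)) uc || Nat.beq (conjM (powM vc j) (powM uc k)) (invM uc)

/-- normalisation of the image of `v` by powers of `u`. -/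
noncomputable def k4OK (p uc vc : ℕ) (YV : List ℕ) : Bool :=
  YV.all fun c => (List.range p).any fun d => Nat.beq (conjM (powM uc d) c) vc

/-- every compatible tuple is a conjugate of the standard one under a member of `Ns`. -/
noncomputable def k5OK (F0 D uc vc : ℕ) (wcs Ns : List ℕ) (stages : List Stage) : Bool :=
  [uc, invM uc].all fun ue => (tuples F0 D [ue, vc] stages).all fun tup =>
    Ns.any fun nc => validM nc && decide (tup = (uc :: vc :: wcs).map (conjM nc))

theorem rigid {F0 D p m : ℕ} (hF0 : F0 < 2 ^ 24) (hD : D < 2 ^ 24) [Fact p.Prime]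
    (hp2 : ¬ p ^ 2 ∣ 244823040)
    (ug vg : ↥(GG F0 D)) (wsG : List ↥(GG F0 D)) {uc vc : ℕ} {wcs YV Ns : List ℕ} {stages : List Stage}
    (huc : code (ug : Equiv.Perm GolayPt) = uc) (hvc : code (vg : Equiv.Perm GolayPt) = vc)
    (hwcs : wsG.map (fun g : ↥(GG F0 D) => code (g : Equiv.Perm GolayPt)) = wcs)
    (hgen : Subgroup.closure ({ug, vg} ∪ {w | w ∈ wsG}) = ⊤)
    (hup : powM uc p = idM) (hu1 : uc ≠ idM)
    (hvu : mulM vc uc = mulM (powM uc m) vc)
    (k3 : k3OK p uc vc = true)
    (hYV : ∀ y ∈ M24, y * (ug : Equiv.Perm GolayPt) = (ug : Equiv.Perm GolayPt) ^ m * y → code y ∈ YV)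
    (k4 : k4OK p uc vc YV = true)
    (hstd : stdOK vc [uc, vc] wcs stages = true)
    (hY : ∀ st ∈ stages, ∀ y ∈ M24, y * (vg : Equiv.Perm GolayPt) = (vg : Equiv.Perm GolayPt) ^ st.e * y →
      code y ∈ st.Y)
    (k5 : k5OK F0 D uc vc wcs Ns stages = true)
    (φ : ↥(GG F0 D) →* Equiv.Perm GolayPt) (hinj : Function.Injective φ) (hran : ∀ g, φ g ∈ GG F0 D) :
    ∃ h ∈ GG F0 D, ∃ n : Equiv.Perm GolayPt, code n ∈ Ns ∧
      ∀ g : ↥(GG F0 D), φ g = (h * n) * (g : Equiv.Perm GolayPt) * (h * n)⁻¹ := by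
  set u : Equiv.Perm GolayPt := (ug : Equiv.Perm GolayPt) with hu
  set v : Equiv.Perm GolayPt := (vg : Equiv.Perm GolayPt) with hv
  have hG24 : (GG F0 D) ≤ M24 := fun g hg => (mem_GG.1 hg).1
  -- the order of `u`
  have hupow : u ^ p = 1 := by
    apply code_injective
    rw [code_pow, huc, hup, code_one]
  have hune : u ≠ 1 := by
    intro h
    apply hu1
    rw [← huc, h, code_one]
  have hugpow : ug ^ p = 1 := Subtype.ext (by simpa using hupow)
  have hugne : ug ≠ 1 := fun h => hune (by rw [hu, h]; rfl)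
  have hcard : ¬ p ^ 2 ∣ Nat.card (GG F0 D) := by
    intro hd
    apply hp2
    rw [← card_M24]
    exact hd.trans (Subgroup.card_dvd_of_le hG24)
  -- stage 1: Sylow
  obtain ⟨g1, k, hk⟩ := exists_conj_pow hcard hugpow hugne
    (b := ⟨φ ug, hran ug⟩) (Subtype.ext (by
      show (φ ug) ^ p = 1
      rw [← map_pow, hugpow, map_one]))
    (fun h => hugne (hinj (by
      rw [map_one]
      exact congrArg Subtype.val h)))
  have hk' : (g1 : Equiv.Perm GolayPt) * φ ug * (g1 : Equiv.Perm GolayPt)⁻¹ = u ^ (k % p) := by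
    have := congrArg Subtype.val hk
    rw [← pow_eq_pow_mod k hupow]
    simpa using this
  have hkp : k % p < p := Nat.mod_lt _ (Fact.out : p.Prime).pos
  have hk0 : k % p ≠ 0 := by
    intro h0
    rw [h0, pow_zero] at hk'
    have h1 : φ ug = 1 := by
      have : φ ug = (g1 : Equiv.Perm GolayPt)⁻¹ * ((g1 : Equiv.Perm GolayPt) * φ ug *
        (g1 : Equiv.Perm GolayPt)⁻¹) * g1 := by group
      rw [this, hk']; group
    exact hugne (hinj (by rw [h1, map_one]))
  -- stage 2
  have h3 := (List.all_eq_true.1 k3) (k % p) (List.mem_range.2 hkp)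
  rw [Bool.or_eq_true, Nat.beq_eq] at h3
  have h3' := h3.resolve_left hk0
  rw [List.any_eq_true] at h3'
  obtain ⟨j, _, hj⟩ := h3'
  rw [Bool.or_eq_true, Nat.beq_eq, Nat.beq_eq, ← huc, ← hvc, ← code_pow, ← code_pow, ← code_conj,
    ← code_inv] at hj
  have hj' : v ^ j * u ^ (k % p) * (v ^ j)⁻¹ = u ∨ v ^ j * u ^ (k % p) * (v ^ j)⁻¹ = u⁻¹ :=
    hj.imp (fun h => code_injective h) (fun h => code_injective h)
  obtain ⟨ue, hue, hue2⟩ : ∃ ue : Equiv.Perm GolayPt, (ue = u ∨ ue = u⁻¹) ∧
      v ^ j * u ^ (k % p) * (v ^ j)⁻¹ = ue := ⟨_, hj', rfl⟩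
  set h2 : Equiv.Perm GolayPt := v ^ j * g1 with hh2
  have hh2G : h2 ∈ (GG F0 D) := (GG F0 D).mul_mem ((GG F0 D).pow_mem vg.2 j) g1.2
  have hU2 : h2 * φ ug * h2⁻¹ = ue := by
    rw [← hue2, ← hk', hh2]; group
  -- stage 3
  have hvug : vg * ug = ug ^ m * vg := by
    apply Subtype.ext
    apply code_injective
    simp only [Subgroup.coe_mul, Subgroup.coe_pow]
    rw [code_mul, code_mul, code_pow, huc, hvc, hvu]
  have hV : (h2 * φ vg * h2⁻¹) * ue = ue ^ m * (h2 * φ vg * h2⁻¹) := by
    have h5 := congrArg φ hvug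
    rw [map_mul, map_mul, map_pow] at h5
    rw [← hU2, conj_pow]
    calc h2 * φ vg * h2⁻¹ * (h2 * φ ug * h2⁻¹) = h2 * (φ vg * φ ug) * h2⁻¹ := by group
      _ = h2 * (φ ug ^ m * φ vg) * h2⁻¹ := by rw [h5]
      _ = h2 * φ ug ^ m * h2⁻¹ * (h2 * φ vg * h2⁻¹) := by group
  have hV' : (h2 * φ vg * h2⁻¹) * u = u ^ m * (h2 * φ vg * h2⁻¹) := by
    rcases hue with rfl | rfl
    · exact hV
    · set V := h2 * φ vg * h2⁻¹
      have e1 : V * u⁻¹ * V⁻¹ = (u⁻¹) ^ m := by rw [hV]; group
      have e2 : V * u * V⁻¹ = u ^ m := by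
        have := congrArg (fun x => x⁻¹) e1
        simp only [mul_inv_rev, inv_inv, inv_pow] at this
        rw [← this]; group
      rw [← e2]; group
  have hVG : h2 * φ vg * h2⁻¹ ∈ (GG F0 D) := (GG F0 D).mul_mem ((GG F0 D).mul_mem hh2G (hran vg)) ((GG F0 D).inv_mem hh2G)
  have h4 := (List.all_eq_true.1 k4) _ (hYV _ (hG24 hVG) hV')
  rw [List.any_eq_true] at h4
  obtain ⟨d, _, hd⟩ := h4
  rw [Nat.beq_eq, ← huc, ← hvc, ← code_pow, ← code_conj] at hd
  have hd' := code_injective hd
  set h3 : Equiv.Perm GolayPt := u ^ d * h2 with hh3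
  have hh3G : h3 ∈ (GG F0 D) := (GG F0 D).mul_mem ((GG F0 D).pow_mem ug.2 d) hh2G
  have hV3 : h3 * φ vg * h3⁻¹ = v := by
    rw [← hd', hh3]; group
  have hU3 : h3 * φ ug * h3⁻¹ = ue := by
    have : h3 * φ ug * h3⁻¹ = u ^ d * (h2 * φ ug * h2⁻¹) * (u ^ d)⁻¹ := by rw [hh3]; group
    rw [this, hU2]
    rcases hue with rfl | rfl
    · group
    · group
  -- the normalised homomorphism
  let φ3 : ↥(GG F0 D) →* Equiv.Perm GolayPt := (MulAut.conj h3).toMonoidHom.comp φ
  have hφ3 : ∀ g, φ3 g = h3 * φ g * h3⁻¹ := fun g => rfl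
  have hran3 : ∀ g, φ3 g ∈ (GG F0 D) := fun g => (GG F0 D).mul_mem ((GG F0 D).mul_mem hh3G (hran g)) ((GG F0 D).inv_mem hh3G)
  have htup := mem_tuples hF0 hD φ3 hran3 (vg := vg) (by rw [hφ3, hV3]) stages hY [ug, vg] wsG (by
    simp only [List.map_cons, List.map_nil]
    rw [hwcs, huc, hvc]
    exact hstd)
  simp only [List.map_cons, List.map_nil, List.cons_append, List.nil_append] at htup
  rw [hφ3 ug, hφ3 vg, hU3, hV3, hvc] at htup
  have hue_mem : code ue ∈ [uc, invM uc] := by
    rcases hue with rfl | rfl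
    · simp [huc]
    · simp [code_inv, huc]
  have h5 := (List.all_eq_true.1 ((List.all_eq_true.1 k5) _ hue_mem)) _ htup
  rw [List.any_eq_true] at h5
  obtain ⟨nc, hnc, h6⟩ := h5
  rw [Bool.and_eq_true, decide_eq_true_eq] at h6
  obtain ⟨n, hn⟩ := exists_code_of_valid h6.1
  have h7 := h6.2
  rw [List.map_cons, List.map_cons, List.cons.injEq, List.cons.injEq, ← hwcs, List.map_map,
    List.map_inj_left] at h7
  obtain ⟨h7a, h7b, h7c⟩ := h7
  -- the two homomorphisms agree on the generators
  let ψ : ↥(GG F0 D) →* Equiv.Perm GolayPt := (MulAut.conj n).toMonoidHom.comp (GG F0 D).subtype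
  have hψ : ∀ g : ↥(GG F0 D), ψ g = n * (g : Equiv.Perm GolayPt) * n⁻¹ := fun g => rfl
  have heq : φ3 = ψ := by
    apply MonoidHom.eq_of_eqOn_dense hgen
    intro g hg
    rcases hg with hg | hg
    · rcases hg with rfl | hg
      · rw [hφ3, hU3, hψ]
        apply code_injective
        rw [h7a, code_conj, hn, huc]
      · rw [Set.mem_singleton_iff] at hg
        rw [hg, hφ3, hV3, hψ]
        apply code_injective
        rw [hvc, h7b, code_conj, hn, hvc]
    · have := h7c g hg
      rw [hψ]
      apply code_injective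
      rw [this, Function.comp, code_conj, hn]
  refine ⟨h3⁻¹, (GG F0 D).inv_mem hh3G, n, by rw [hn]; exact hnc, ?_⟩
  intro g
  have h8 : φ3 g = ψ g := by rw [heq]
  rw [hφ3, hψ] at h8
  have : φ g = h3⁻¹ * (h3 * φ g * h3⁻¹) * h3 := by group
  rw [this, h8]; group

end Cfsg.Agent.Lib.Helper88
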