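import Mathlib
import Cfsg.Prelude.Def_Sporadic_a
import Cfsg.Prelude.Def_KGroupFacts
import Cfsg.Agent.Lib.Helper88.MRigid

/-!
From rigidity to the order of the outer automorphism group; generation certificates.
-/

set_option autoImplicit false
open scoped Pointwise

namespace Cfsg.Agent.Lib.Helper88
open Cfsg.Agent.Lib.Helper94

/-- the conclusion of the rigidity theorem. -/
def Rigid (G : Subgroup (Equiv.Perm GolayPt)) (Ns : List ℕ) : Prop :=
  ∀ φ : ↥G →* Equiv.Perm GolayPt, Function.Injective φ → (∀ g, φ g ∈ G) →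
    ∃ h ∈ G, ∃ n : Equiv.Perm GolayPt, code n ∈ Ns ∧
      ∀ g : ↥G, φ g = (h * n) * (g : Equiv.Perm GolayPt) * (h * n)⁻¹

theorem Rigid.aut {G : Subgroup (Equiv.Perm GolayPt)} {Ns : List ℕ} (h : Rigid G Ns) (α : MulAut ↥G) :
    ∃ h ∈ G, ∃ n : Equiv.Perm GolayPt, code n ∈ Ns ∧
      ∀ g : ↥G, ((α g : ↥G) : Equiv.Perm GolayPt) = (h * n) * (g : Equiv.Perm GolayPt) * (h * n)⁻¹ :=
  h (G.subtype.comp α.toMonoidHom) (G.subtype_injective.comp α.injective) (fun g => (α g).2)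

theorem card_out_eq_one {G : Subgroup (Equiv.Perm GolayPt)} (rig : Rigid G [idM]) :
    Nat.card (Cfsg.Out ↥G) = 1 := by
  show (Cfsg.Inn ↥G).index = 1
  rw [Subgroup.index_eq_one, eq_top_iff]
  intro α _
  obtain ⟨h, hh, n, hn, hα⟩ := rig.aut α
  rw [List.mem_singleton, ← code_one] at hn
  have hn1 : n = 1 := code_injective hn
  refine ⟨⟨h, hh⟩, ?_⟩
  ext g
  rw [hα g, hn1, mul_one]
  rfl

theorem card_out_eq_two {G : Subgroup (Equiv.Perm GolayPt)} {nc : ℕ} (n₀ : Equiv.Perm GolayPt)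
    (hn₀ : code n₀ = nc) (rig : Rigid G [idM, nc])
    (hnorm : ∀ g ∈ G, n₀ * g * n₀⁻¹ ∈ G) (hnorm' : ∀ g ∈ G, n₀⁻¹ * g * n₀ ∈ G)
    (hout : ∀ h ∈ G, ¬ ∀ g ∈ G, n₀ * g * n₀⁻¹ = h * g * h⁻¹) :
    Nat.card (Cfsg.Out ↥G) = 2 := by
  show (Cfsg.Inn ↥G).index = 2
  let a : MulAut ↥G :=
    { toFun := fun g => ⟨n₀ * g * n₀⁻¹, hnorm g g.2⟩
      invFun := fun g => ⟨n₀⁻¹ * g * n₀, hnorm' g g.2⟩
      left_inv := fun g => Subtype.ext (by
        show n₀⁻¹ * (n₀ * g * n₀⁻¹) * n₀ = g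
        group)
      right_inv := fun g => Subtype.ext (by
        show n₀ * (n₀⁻¹ * g * n₀) * n₀⁻¹ = g
        group)
      map_mul' := fun g k => Subtype.ext (by
        show n₀ * (g * k) * n₀⁻¹ = (n₀ * g * n₀⁻¹) * (n₀ * k * n₀⁻¹)
        group) }
  have ha : ∀ g : ↥G, ((a g : ↥G) : Equiv.Perm GolayPt) = n₀ * g * n₀⁻¹ := fun g => rfl
  have haInn : a ∉ Cfsg.Inn ↥G := by
    rintro ⟨h, hh⟩
    apply hout h h.2
    intro g hg
    have := congrArg (fun f : MulAut ↥G => ((f ⟨g, hg⟩ : ↥G) : Equiv.Perm GolayPt)) hh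
    simp only [ha] at this
    rw [← this]
    rfl
  rw [Subgroup.index_eq_two_iff]
  refine ⟨a⁻¹, fun b => ?_⟩
  obtain ⟨h, hh, n, hn, hb⟩ := rig.aut b
  simp only [List.mem_cons, List.not_mem_nil, or_false] at hn
  rcases hn with hn | hn
  · -- `b` is inner
    rw [← code_one] at hn
    have hn1 : n = 1 := code_injective hn
    have hbInn : b ∈ Cfsg.Inn ↥G := by
      refine ⟨⟨h, hh⟩, ?_⟩
      ext g
      rw [hb g, hn1, mul_one]
      rfl
    refine Or.inr ⟨hbInn, fun hba => haInn ?_⟩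
    have h1 := (Cfsg.Inn ↥G).mul_mem ((Cfsg.Inn ↥G).inv_mem hba) hbInn
    have e : (b * a⁻¹)⁻¹ * b = a := by group
    rwa [e] at h1
  · rw [← hn₀] at hn
    have hn1 : n = n₀ := code_injective hn
    have hba : b * a⁻¹ ∈ Cfsg.Inn ↥G := by
      refine ⟨⟨h, hh⟩, ?_⟩
      rw [eq_mul_inv_iff_mul_eq]
      apply MulEquiv.ext
      intro g
      apply Subtype.ext
      rw [hb g, hn1, MulAut.mul_apply]
      show h * ((a g : ↥G) : Equiv.Perm GolayPt) * h⁻¹ = _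
      rw [ha]
      group
    refine Or.inl ⟨hba, fun hbInn => haInn ?_⟩
    have h1 := (Cfsg.Inn ↥G).mul_mem ((Cfsg.Inn ↥G).inv_mem hba) hbInn
    have e : (b * a⁻¹)⁻¹ * b = a := by group
    rwa [e] at h1

/-! ### generation -/

theorem closure_eq_top_of_chain {F0 D : ℕ} (hD : D < 2 ^ 24) (xsG : List ↥(GG F0 D)) {xs Lo fin : List ℕ}
    {lvs tail : List GLev} {steps : List (ℕ × ℕ × ℕ)}
    (hxs : xsG.map (fun g : ↥(GG F0 D) => code (g : Equiv.Perm GolayPt)) = xs)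
    (hchain : gchainOK D Lo (finTail D Lo fin tail) (fun v => (slp steps xs).any (Nat.beq v)) F0 lvs = true) :
    Subgroup.closure {g | g ∈ xsG} = ⊤ := by
  rw [eq_top_iff]
  intro g _
  set Y : Subgroup (Equiv.Perm GolayPt) := (Subgroup.closure {g | g ∈ xsG}).map (GG F0 D).subtype with hY
  have hYK : Y ≤ GG F0 D := by
    rintro _ ⟨x, _, rfl⟩
    exact x.2
  have hbase : ∀ c ∈ xs, Rep Y c := by
    intro c hc
    rw [← hxs, List.mem_map] at hc
    obtain ⟨x, hx, rfl⟩ := hc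
    exact ⟨x, ⟨x, Subgroup.subset_closure hx, rfl⟩, rfl⟩
  have hmem : ∀ v, (fun v => (slp steps xs).any (Nat.beq v)) v = true → Rep Y v := by
    intro v hv
    simp only [List.any_eq_true, Nat.beq_eq] at hv
    obtain ⟨c, hc, rfl⟩ := hv
    exact rep_slp steps xs hbase _ hc
  have h1 := gchain_le (K := GG F0 D) (Y := Y) (fun x hx => (mem_GG.1 hx).1)
    (fun x hx => (mem_GG.1 hx).2.2)
    (finTail_spec hD (fun x hx => (mem_GG.1 hx).1) (fun x hx => (mem_GG.1 hx).2.2))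
    hYK hmem lvs F0 hchain g g.2 (mem_GG.1 g.2).2.1
  obtain ⟨x, hx, hxg⟩ := h1
  have : x = g := Subtype.ext hxg
  rwa [← this]

/-- conjugation by `n₀` maps the group into itself, checked on generators. -/
theorem conj_mem_of_gens {G : Subgroup (Equiv.Perm GolayPt)} {S : Set ↥G} (hgen : Subgroup.closure S = ⊤)
    (n : Equiv.Perm GolayPt) (h : ∀ x ∈ S, n * (x : Equiv.Perm GolayPt) * n⁻¹ ∈ G) :
    ∀ g ∈ G, n * g * n⁻¹ ∈ G := by
  intro g hg
  have hmem : (⟨g, hg⟩ : ↥G) ∈ Subgroup.closure S := by rw [hgen]; exact Subgroup.mem_top _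
  have key : ∀ x : ↥G, x ∈ Subgroup.closure S → n * (x : Equiv.Perm GolayPt) * n⁻¹ ∈ G := by
    intro x hx
    induction hx using Subgroup.closure_induction with
    | mem x hx => exact h x hx
    | one => simp [G.one_mem]
    | mul x y _ _ hx hy =>
      have := G.mul_mem hx hy
      have e : n * (x : Equiv.Perm GolayPt) * n⁻¹ * (n * (y : Equiv.Perm GolayPt) * n⁻¹) =
          n * ((x * y : ↥G) : Equiv.Perm GolayPt) * n⁻¹ := by
        rw [Subgroup.coe_mul]; group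
      rwa [e] at this
    | inv x _ hx =>
      have := G.inv_mem hx
      have e : (n * (x : Equiv.Perm GolayPt) * n⁻¹)⁻¹ = n * ((x⁻¹ : ↥G) : Equiv.Perm GolayPt) * n⁻¹ := by
        rw [Subgroup.coe_inv]; group
      rwa [e] at this
  exact key _ hmem

/-- the outer element does not induce an inner automorphism. -/
theorem not_inner_of_checks {F0 D nc vc : ℕ} {CU : List ℕ} (hF0 : F0 < 2 ^ 24) (hD : D < 2 ^ 24)
    (ug vg : ↥(GG F0 D)) (hvc : code (vg : Equiv.Perm GolayPt) = vc)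
    (n₀ : Equiv.Perm GolayPt) (hn₀ : code n₀ = nc) (hn24 : n₀ ∈ M24)
    (hCU : ∀ y ∈ M24, y * (ug : Equiv.Perm GolayPt) = (ug : Equiv.Perm GolayPt) * y → code y ∈ CU)
    (hc : CU.all (fun c => !Nat.beq (mulM c vc) (mulM vc c) || Nat.beq c idM) = true)
    (hnG : inGG F0 D nc = false) :
    ∀ h ∈ GG F0 D, ¬ ∀ g ∈ GG F0 D, n₀ * g * n₀⁻¹ = h * g * h⁻¹ := by
  intro h hh hall
  have hcomm : ∀ g ∈ GG F0 D, (h⁻¹ * n₀) * g = g * (h⁻¹ * n₀) := by
    intro g hg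
    have := hall g hg
    calc h⁻¹ * n₀ * g = h⁻¹ * (n₀ * g * n₀⁻¹) * n₀ := by group
      _ = h⁻¹ * (h * g * h⁻¹) * n₀ := by rw [this]
      _ = g * (h⁻¹ * n₀) := by group
  have h24 : h⁻¹ * n₀ ∈ M24 := M24.mul_mem (M24.inv_mem (mem_GG.1 hh).1) hn24
  have h1 := (List.all_eq_true.1 hc) _ (hCU _ h24 (hcomm _ ug.2))
  have h2 : Nat.beq (mulM (code (h⁻¹ * n₀)) vc) (mulM vc (code (h⁻¹ * n₀))) = true := by
    rw [Nat.beq_eq, ← hvc, ← code_mul, ← code_mul, hcomm _ vg.2]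
  rw [h2] at h1
  simp only [Bool.not_true, Bool.false_or, Nat.beq_eq] at h1
  rw [← code_one] at h1
  have h3 : h⁻¹ * n₀ = 1 := code_injective h1
  have h4 : n₀ = h := by
    rw [inv_mul_eq_one] at h3
    exact h3.symm
  have h5 := inGG_code hF0 hD (h4 ▸ hh : n₀ ∈ GG F0 D)
  rw [hn₀, hnG] at h5
  exact Bool.false_ne_true h5

end Cfsg.Agent.Lib.Helper88
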