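import Mathlib
import Cfsg.Prelude.Def_Sporadic_a
import Cfsg.Prelude.Def_KGroupFacts
import Cfsg.Agent.Lib.Helper88.MOutCard

/-!
The order of the outer automorphism group of `GG F0 D` from kernel-checkable data only.
-/

set_option autoImplicit false
open scoped Pointwise

namespace Cfsg.Agent.Lib.Helper88
open Cfsg.Agent.Lib.Helper94

theorem valid_of_inGG {F0 D c : ℕ} (h : inGG F0 D c = true) : validM c = true := by
  simp only [inGG, Bool.and_eq_true] at h
  exact validM_of_inM24 h.1.1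

/-- the element of `GG F0 D` with a given code. -/
noncomputable def mkG {F0 D : ℕ} (hD : D < 2 ^ 24) (c : ℕ) (h : inGG F0 D c = true) : ↥(GG F0 D) :=
  ⟨permOf c, mem_GG_of_inGG hD (by rw [code_permOf (valid_of_inGG h)]; exact h)⟩

theorem code_mkG {F0 D : ℕ} (hD : D < 2 ^ 24) (c : ℕ) (h : inGG F0 D c = true) :
    code (mkG hD c h : Equiv.Perm GolayPt) = c := code_permOf (valid_of_inGG h)

noncomputable def mkL {F0 D : ℕ} (hD : D < 2 ^ 24) (cs : List ℕ) (h : cs.all (inGG F0 D) = true) :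
    List ↥(GG F0 D) :=
  cs.attach.map fun c => mkG hD c.1 ((List.all_eq_true.1 h) c.1 c.2)

theorem map_code_mkL {F0 D : ℕ} (hD : D < 2 ^ 24) (cs : List ℕ) (h : cs.all (inGG F0 D) = true) :
    (mkL hD cs h).map (fun g : ↥(GG F0 D) => code (g : Equiv.Perm GolayPt)) = cs := by
  rw [mkL, List.map_map]
  have : ∀ c ∈ cs.attach, ((fun g : ↥(GG F0 D) => code (g : Equiv.Perm GolayPt)) ∘
      fun c : { x // x ∈ cs } => mkG hD c.1 ((List.all_eq_true.1 h) c.1 c.2)) c = Subtype.val c := by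
    intro c _
    rw [Function.comp_apply]
    exact code_mkG hD _ _
  rw [List.map_congr_left this, List.attach_map_subtype_val]

/-- the stages belonging to a list of pairs (exponent, relators). -/
noncomputable def mkStages (vc : ℕ) (ns : List ℕ) (lvs : List GLev) (ers : List (ℕ × List (List ℕ))) :
    List Stage :=
  ers.map fun er => ⟨er.1, intertw vc (powM vc er.1) ns lvs, er.2⟩

/-- all the data and checks for one group. -/
structure OutCert (F0 D p m uc vc : ℕ) (wcs Ns : List ℕ) : Prop where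
  hF0 : F0 < 2 ^ 24
  hD : D < 2 ^ 24
  hp : p.Prime
  hp2 : ¬ p ^ 2 ∣ 244823040
  hu : inGG F0 D uc = true
  hv : inGG F0 D vc = true
  hw : wcs.all (inGG F0 D) = true
  gen : ∃ (gLo gfin : List ℕ) (glvs gtail : List GLev) (gsteps : List (ℕ × ℕ × ℕ)),
    gchainOK D gLo (finTail D gLo gfin gtail)
      (fun v => (slp gsteps (uc :: vc :: wcs)).any (Nat.beq v)) F0 glvs = true
  main : ∃ (uLo ufin : List ℕ) (ulvs : List GLev) (usegs : List (ℕ × ℕ))
      (vLo vfin : List ℕ) (vlvs : List GLev) (vsegs : List (ℕ × ℕ)) (ers : List (ℕ × List (List ℕ))),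
    gchainOK 16777215 uLo (finClo 16777215 uLo ufin) inM24 0 ulvs = true ∧
    ulvs.map (fun lv => lv.β) = baseOf uc usegs ∧ (∀ s ∈ usegs, s.2 < 24) ∧
    gchainOK 16777215 vLo (finClo 16777215 vLo vfin) inM24 0 vlvs = true ∧
    vlvs.map (fun lv => lv.β) = baseOf vc vsegs ∧ (∀ s ∈ vsegs, s.2 < 24) ∧
    powM uc p = idM ∧ uc ≠ idM ∧ mulM vc uc = mulM (powM uc m) vc ∧
    k3OK p uc vc = true ∧
    k4OK p uc vc (intertw uc (powM uc m) (usegs.map Prod.fst) ulvs) = true ∧
    stdOK vc [uc, vc] wcs (mkStages vc (vsegs.map Prod.fst) vlvs ers) = true ∧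
    k5OK F0 D uc vc wcs Ns (mkStages vc (vsegs.map Prod.fst) vlvs ers) = true ∧
    (intertw uc uc (usegs.map Prod.fst) ulvs).all
      (fun c => !Nat.beq (mulM c vc) (mulM vc c) || Nat.beq c idM) = true

namespace OutCert

variable {F0 D p m uc vc : ℕ} {wcs Ns : List ℕ}

theorem closure_top (C : OutCert F0 D p m uc vc wcs Ns) :
    Subgroup.closure ({mkG C.hD uc C.hu, mkG C.hD vc C.hv} ∪ {w | w ∈ mkL C.hD wcs C.hw}) = ⊤ := by
  obtain ⟨gLo, gfin, glvs, gtail, gsteps, h⟩ := C.gen
  have := closure_eq_top_of_chain C.hD (mkG C.hD uc C.hu :: mkG C.hD vc C.hv :: mkL C.hD wcs C.hw)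
    (xs := uc :: vc :: wcs) (by
      rw [List.map_cons, List.map_cons, code_mkG, code_mkG, map_code_mkL]) h
  rw [← this]
  congr 1
  ext g
  simp only [Set.mem_union, Set.mem_insert_iff, Set.mem_singleton_iff, Set.mem_ofPred_eq, List.mem_cons]
  tauto

theorem rigid (C : OutCert F0 D p m uc vc wcs Ns) : Rigid (GG F0 D) Ns := by
  intro φ hinj hran
  obtain ⟨uLo, ufin, ulvs, usegs, vLo, vfin, vlvs, vsegs, ers, h1, h2, h3, h4, h5, h6, h7, h8, h9, h10,
    h11, h12, h13, _⟩ := C.main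
  have : Fact p.Prime := ⟨C.hp⟩
  refine Helper88.rigid C.hF0 C.hD C.hp2 (mkG C.hD uc C.hu) (mkG C.hD vc C.hv) (mkL C.hD wcs C.hw)
    (code_mkG _ _ _) (code_mkG _ _ _) (map_code_mkL _ _ _) C.closure_top h7 h8 h9 h10 ?_ h11 h12 ?_ h13
    φ hinj hran
  · intro y hy hyu
    have := mem_intertw (a := (mkG C.hD uc C.hu : Equiv.Perm GolayPt))
      (b := (mkG C.hD uc C.hu : Equiv.Perm GolayPt) ^ m) h1 (by rw [code_mkG]; exact h2) h3 hy hyu
    rwa [code_pow, code_mkG] at this
  · intro st hst y hy hyv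
    rw [mkStages, List.mem_map] at hst
    obtain ⟨er, _, rfl⟩ := hst
    have := mem_intertw (a := (mkG C.hD vc C.hv : Equiv.Perm GolayPt))
      (b := (mkG C.hD vc C.hv : Equiv.Perm GolayPt) ^ er.1) h4 (by rw [code_mkG]; exact h5) h6 hy hyv
    rwa [code_pow, code_mkG] at this

theorem card_out_one (C : OutCert F0 D p m uc vc wcs [idM]) : Nat.card (Cfsg.Out ↥(GG F0 D)) = 1 :=
  card_out_eq_one C.rigid

theorem card_out_two {nc : ℕ} (C : OutCert F0 D p m uc vc wcs [idM, nc]) (hn24 : inM24 nc = true)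
    (hnG : inGG F0 D nc = false)
    (hconj : (uc :: vc :: wcs).all
      (fun c => inGG F0 D (conjM nc c) && inGG F0 D (conjM (invM nc) c)) = true) :
    Nat.card (Cfsg.Out ↥(GG F0 D)) = 2 := by
  have hval := validM_of_inM24 hn24
  have hcode : code (permOf nc) = nc := code_permOf hval
  have hgens : ∀ x ∈ ({mkG C.hD uc C.hu, mkG C.hD vc C.hv} ∪ {w | w ∈ mkL C.hD wcs C.hw} : Set ↥(GG F0 D)),
      code (x : Equiv.Perm GolayPt) ∈ uc :: vc :: wcs := by
    intro x hx
    rcases hx with hx | hx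
    · rcases hx with rfl | hx
      · rw [code_mkG]; exact List.mem_cons_self
      · rw [Set.mem_singleton_iff] at hx
        rw [hx, code_mkG]; exact List.mem_cons_of_mem _ List.mem_cons_self
    · have : code (x : Equiv.Perm GolayPt) ∈
          (mkL C.hD wcs C.hw).map (fun g : ↥(GG F0 D) => code (g : Equiv.Perm GolayPt)) :=
        List.mem_map.2 ⟨x, hx, rfl⟩
      rw [map_code_mkL] at this
      exact List.mem_cons_of_mem _ (List.mem_cons_of_mem _ this)
  obtain ⟨uLo, ufin, ulvs, usegs, vLo, vfin, vlvs, vsegs, ers, h1, h2, h3, _, _, _, _, _, _, _,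
    _, _, _, h14⟩ := C.main
  apply card_out_eq_two (permOf nc) hcode C.rigid
  · apply conj_mem_of_gens C.closure_top
    intro x hx
    have := (List.all_eq_true.1 hconj) _ (hgens x hx)
    rw [Bool.and_eq_true] at this
    apply mem_GG_of_inGG C.hD
    rw [code_conj, hcode]
    exact this.1
  · have := conj_mem_of_gens C.closure_top (permOf nc)⁻¹ (by
      intro x hx
      have := (List.all_eq_true.1 hconj) _ (hgens x hx)
      rw [Bool.and_eq_true] at this
      apply mem_GG_of_inGG C.hD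
      rw [code_conj, code_inv, hcode]
      exact this.2)
    simpa using this
  · apply not_inner_of_checks C.hF0 C.hD (mkG C.hD uc C.hu) (mkG C.hD vc C.hv) (code_mkG _ _ _)
      (permOf nc) hcode (permOf_mem_M24 hn24) ?_ h14 hnG
    intro y hy hyu
    have := mem_intertw (a := (mkG C.hD uc C.hu : Equiv.Perm GolayPt))
      (b := (mkG C.hD uc C.hu : Equiv.Perm GolayPt)) h1 (by rw [code_mkG]; exact h2) h3 hy hyu
    rwa [code_mkG] at this

end OutCert

end Cfsg.Agent.Lib.Helper88
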