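import Cfsg.Agent.Lib.Helper88.O73Data

set_option autoImplicit false
set_option maxRecDepth 1000000
set_option maxHeartbeats 0

namespace Cfsg.Agent.Lib.Helper88.O73
open TC

noncomputable def st3 : List (ℕ × ℕ × List ℕ) := parse (unpI 256 [0x1280103600001e80080c00001d80100b00001c80080a00001680284000000e80184000000b00000e80004000001d80383200001280280b00000a80180b00001d80100a00001180103a00001980200b00000880000b00001780080a00000f80404000000f80003800001380183600001180080c00001a80200b00001580000b00001380003900001980283500000580200b00001180000a00001e80003900001d80203200001680080c00000f80100b00001080080b00000980004000001780103800000c80003800001880083500001780103400001880000c00001200000880080a00001380183900001680003900001b80003600001780003300001b80080c00001480183500001880203400001880083400001b80180c00000580000b00000680083800000a80003600000980283500000e80203400001680083100000180080a00000980103a00001480103900000700001580003600001a00001580083400000d80103800000c80183600001a80003600001300000c80283500000d80083400001a00001580180c00000d80080a00000c80183900000d80003900000580083800000780283500000500000380183300000e00000d80180c00000f00000880080c00001080000a00000b80203800000e80103800000a80103700001480183600000b00000a80103300000f00000880100c00000280080c00000680000b00000f00000880003100001080080c00000400000280000c00000980100a00000680080a00000580183d00000480103a00000380103900000380083800000280103600000680183300001000000600000400000280083100001e80003100001180100c00001080200b00000380080a00001c81380000001981200000001b81100000001600001381200000001681100000001081300000001181280000001000000c81200000001000000f81100000000f81000000000681300000000600000500000900000781200000000881100000000400000281300000000400000300000281200000000300000281000000000181080000000181000000000180f000,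
  0x1e80183600000980404000001c80284000001880004000001d800038000012802836])

theorem par3 : parOK 8 255 15 17 rels = true := by decide +kernel

theorem fin3 : finOK 8 255 20 15 30 (run 8 255 20 15 rels st3 (initS 8 20 17)) = true := by
  decide +kernel

theorem fix3 : fixOK nets 20 17 3 = true := by decide +kernel

theorem orb3 : Nat.ble 30 (cnt 351 (orb nets (lets 20 15) [30,32,30,36,32,36,32,32] 3)) = true := by decide +kernel

end Cfsg.Agent.Lib.Helper88.O73
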