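import Cfsg.Agent.Lib.Helper88.Sp4Data

set_option autoImplicit false
set_option maxRecDepth 1000000
set_option maxHeartbeats 0

namespace Cfsg.Agent.Lib.Helper88.Sp4
open TC

noncomputable def st1 : List (ℕ × ℕ × List ℕ) := parse (unpI 256 [0x80100900000980180700001280100700000480100600001080003500000580082d00000580082c00000580080800000a80100600000180003500000d80082900000380082800000580102700000f80100a00000880000500000480102600001080002600000a80102500000f00000a80082000000880001600000f80001100001280100c00001280000a00000580000500000480102500000580102200000480082000000a80001900000a80001200001480001100000a80080c00000480000b00000880100a00000880082900000580101800000d80101100000a80081000000d80100700001480102700000f80102500000d80001800000680100b00000300000780180800000680102800000480081c00000a80181000000680100a00001280000900001280000500001280083500000680082000001280101800001280101600000480100b00001080000a00000680102500000580081500000780100c00000f80080c00000680000b00001080000900000280000500000680082200000f80101800000f80101600000580101100001480000500001480002400001480082000000880001900000780080e00001480080c00001280000b00000b80000500000880101900000d80101800000780201700000880101700000880101400000880101100001480080f00000d80080c00001480101000000d80000f00000280080e00000d80100c00000280100b00001080082100000280100a00000280182f00000780003400000280100900000900000780000500000780102300000580101600000d80000900000280180800000280180700000280180600000280082e00000600000280080f00000300000480000f00000580080e00000300000d80000e00000580080c00000d00000280080500000d80000500001080a80000001180500000000d80c00000000c80500000000d80400000000680d00000000b80c00000000780600000000980380000000300000480d00000000300000580c00000000380580000000380500000000280d00000000280a800000002804000000001802000,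
  0x1180283100000680183000000580283100000800000a80102e00001280183100000b80403000000a80283000000c80100400000280000400000b80003400000580183000000280200400000380180400000380080300000c80003500000380103400000e80403100000400000d80102e00000980002e00001380100400000f80080300000e80001600000680000400001080080300000e00001400000680083500000e80101600000e80100c00000e80100b00000800000f80003400000980100c00000980080b00000e80100a00000480002e00000280102500001380100c00001380100b00000380100a00000e80180800001380102e00001180100c00001180100b00001380100a00000f80080800000e00000680080700000e80180600000f80000500000980000400000c80103400001380082700000e80102500000380101600000e80080b00001180100900000e80100600001180082600000b80181a00000c80100c00000c80100b00001100000b80100a00001380100900000a80080900001180180700001380182700000b80181c00000980100a00000c80100900001300001180180800001300001280180700001380080600000980182400000c80100a00000b80100900000c80100800001180080700001180180600000c80080500000480000500000c80203300000c80203200000c80203100000c80203000000980082800000480102200000b00000980180800000b80180700000a800806000012800027000003])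

theorem par1 : parOK 8 255 2 4 rels = true := by decide +kernel

theorem fin1 : finOK 8 255 14 2 20 (run 8 255 14 2 rels st1 (initS 8 14 4)) = true := by
  decide +kernel

theorem fix1 : fixOK nets 14 4 1 = true := by decide +kernel

theorem orb1 : Nat.ble 20 (cnt 85 (orb nets (lets 14 2) [4,6,4,10,4,6] 1)) = true := by decide +kernel

end Cfsg.Agent.Lib.Helper88.Sp4
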