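import Cfsg.Agent.Lib.Helper88.Sp4Data

set_option autoImplicit false
set_option maxRecDepth 1000000
set_option maxHeartbeats 0

namespace Cfsg.Agent.Lib.Helper88.Sp4
open TC

noncomputable def st3 : List (ℕ × ℕ × List ℕ) := parse (unpI 256 [0x1080102500001080002500000e80002500001080002000000e80102500001080082000000d80000a00000d80000900000700000f80102500000700000f00000b80002500000f80102400000d80082100000e80002000000f80000b00000b80102500000c00000380002500000e80082000000700000f80002000000f80081500000f80181100001080081100001080100c00000a80000a00000980000900000c80102500000480002500000c80102400000a80082100000780082000000b80002000000f80100b00000a80080b00000c80000b00000900000880000a00000a00000680000900000480102500000480102400000680102200000980082100000f80082000000600000c80002000000a80201900000c80081500000c00000b80181100000e80081100000e80100c00000a80080c00000b80000b00000280000900000380102500000880082300000180002000000a80181800000b80081500000700000680181100000d80081100000d80100c00000c00000b80100b00000580080b00000700000680000b00000500000280000a00000880000900000180102200000b00000c80082000000580201900000700000680081500000900000880081100000900000880100c00000500000480080c00000700000680100b00000480080b00000480000a00000680082000000480081900000580181800000480081800000300000280080c00000300000280080b00000580000900000380102400000580082100000180082000000380081900000380081800000280081700000280081600000380000a00000180000900000a80b00000000a80a80000000500000480b00000000500000480a80000000880780000000300000280b00000000300000280a800000002807800000002807000000001807000000001806000])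

theorem par3 : parOK 7 127 6 10 rels = true := by decide +kernel

theorem fin3 : finOK 7 127 14 6 16 (run 7 127 14 6 rels st3 (initS 7 14 10)) = true := by
  decide +kernel

theorem fix3 : fixOK nets 14 10 5 = true := by decide +kernel

theorem orb3 : Nat.ble 16 (cnt 85 (orb nets (lets 14 6) [12,14,18,12,14] 5)) = true := by decide +kernel

end Cfsg.Agent.Lib.Helper88.Sp4
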