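import Cfsg.Agent.Lib.Helper88.U62Data

set_option autoImplicit false
set_option maxRecDepth 1000000
set_option maxHeartbeats 0

namespace Cfsg.Agent.Lib.Helper88.U62
open TC

noncomputable def st3 : List (ℕ × ℕ × List ℕ) := parse (unpI 256 [0x300000880085d00000980185d00000a80405500000780005500000680080800000180085d00000980000e00000780405600000c80083800000580000e00000c80405500000780183a00000a80100e00000780000e00000680000d00000880000c00000780103b00000780103900000c00000780103700000c00000280000d00000a80183f00000780083a00000500000780083900000a80083800000b80080f00000680100e00000680103d00000680103700000b80180e00000b80100d00000680080d00000480180800000b80205600000b80205500000b80205400000180285300000b80205300000b80205200000480003d00000680003700000680003600000680183500000c80083500000800000300000980080f00000c00000a80000e00000680100d00000a80000d00000380000c00000500000980085d00000800000380084b00000480104a00000680083e00000c80103b00000580083a00000c80103900000900000480083800000a80083500000580080e00000480000d00000900000580105c00000980104a00000580004700000480084600000580183c00000480183800000280080f00000800000380100d00000980000d00000280100800000480085d00000180105c00000880185b00000880185a00000880185900000880185800000880185700000380105100000380105000000380104f00000380104e00000380104d00000280104c00000280084b00000480104900000280084600000500000280084500000980083600000480003600000981400000000a80e00000000481400000000580f00000000480d00000000281300000000281200000000281000000000280f00000000280d00000000180d000])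

theorem par3 : parOK 7 127 13 15 rels = true := by decide +kernel

theorem fin3 : finOK 7 127 23 13 12 (run 7 127 23 13 rels st3 (initS 7 23 15)) = true := by
  decide +kernel

theorem fix3 : fixOK nets 23 15 3 = true := by decide +kernel

theorem orb3 : Nat.ble 12 (cnt 693 (orb nets (lets 23 13) [26,28,26,26,28,26] 3)) = true := by decide +kernel

end Cfsg.Agent.Lib.Helper88.U62
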