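import Cfsg.Agent.Lib.Helper88.U62Data

set_option autoImplicit false
set_option maxRecDepth 1000000
set_option maxHeartbeats 0

namespace Cfsg.Agent.Lib.Helper88.U62
open TC

noncomputable def st4 : List (ℕ × ℕ × List ℕ) := parse (unpI 256 [0x500000880084a00000680100e00000780004800000380100e00000880000d00000480004800000880004600000800000700000680080f00000880100e00000680000e00000580000d00000580004600000880083e00000780083c00000680083a00000380000e00000880080d00000280000d00000480084a00000380084900000880083d00000780083b00000680083900000500000400000300000280080f00000580100e00000780080e00000580080d00000100000680000d00000780084a00000680084900000200000180084800000200000180084700000200000180084600000180084500000580083e00000580083d00000480083c00000480083b00000380083a00000380083900000280083800000280083700000480080e00000380000d00000281200000000281100000000281000000000181200000000181100000000181000000000180f000])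

theorem par4 : parOK 6 63 15 20 rels = true := by decide +kernel

theorem fin4 : finOK 6 63 23 15 8 (run 6 63 23 15 rels st4 (initS 6 23 20)) = true := by
  decide +kernel

theorem fix4 : fixOK nets 23 20 6 = true := by decide +kernel

theorem orb4 : Nat.ble 8 (cnt 693 (orb nets (lets 23 15) [30,32,34] 6)) = true := by decide +kernel

end Cfsg.Agent.Lib.Helper88.U62
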